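import Cfsg.Agent.H950.War.Row
import Cfsg.Agent.H43.W53.Three

/-!
# S2453: the row `PSU_n(q)`, `n ≥ 3`, `p ∣ k * l` (helper950, helper43)
-/

set_option autoImplicit false

namespace Cfsg.Agent.H950.War

open Cfsg Module Polynomial Cfsg.Agent.H951 Matrix Cfsg.Agent.H98.Ore Cfsg.Agent.H130.War

universe u

variable {F : Type u} [Field F] [Fintype F] {q : ℕ}

theorem ss_psu_three (hF : Fintype.card F = q ^ 2) {p e : ℕ} (hp : p.Prime) [CharP F p] (he : 1 ≤ e)
    (heq : e + 1 < q) : SS p e (PSU 3 F q) :=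
  ss_of_W (coprime_N hF hp (j := 2) (by norm_num)) fun _ hg hs =>
    Cfsg.Agent.H43.W53.W_three (hs_herm hF 3) he heq (Module.finrank_fin_fun F) hg hs

/-- the row -/
theorem kl_psu (hF : Fintype.card F = q ^ 2) {n p k l : ℕ} (hn : 3 ≤ n) (hp : p.Prime) [CharP F p]
    (hk : 2 ≤ k) (hl : 2 ≤ l) (hg : ¬ k.Coprime l) (hd : p ∣ k ∨ p ∣ l)
    (hbig : (max k l) ^ (8 * (max k l) ^ 2) ≤ Nat.card (PSU n F q)) : Cfsg.Agent.H134.War.KL (PSU n F q) k l := by
  rcases hn.eq_or_lt with rfl | hn4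
  · have hM : 2 ≤ max k l := hk.trans (le_max_left _ _)
    have he : 1 ≤ ee p k l := by
      unfold ee
      exact Nat.ordCompl_pos p (Nat.lcm_ne_zero (by omega) (by omega))
    apply SS.kl' (p := p)
    refine ss_psu_three hF hp he (Cfsg.Agent.H43.W53.numeric3 hM he (hbig.trans (card_PSU_le hF (by omega))) ?_)
    by_cases h5 : max k l ≤ 5
    · left; exact ee_eq_one hp hk hl hg h5 hd
    · right; exact ⟨by omega, ee_le (by omega) hg⟩
  · exact kl_psu_four hF hn4 hp hk hl hg hd hbig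

end Cfsg.Agent.H950.War
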