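import Cfsg.Agent.H144.War.Boxes
import Cfsg.Agent.H144.Cplx
import Cfsg.Agent.H143.War.Xi

/-!
# S2453, `PSp`: the box `JBlock` (helper950)
-/

set_option autoImplicit false
set_option linter.unusedSectionVars false

noncomputable section

namespace Cfsg.Agent.H950.War.JB

open Polynomial Module Cfsg.Agent.H144 Cfsg.Agent.H144.War

section ep
variable {F K V : Type*} [Field F] [Field K] [Algebra F K] [FiniteDimensional F K] [AddCommGroup V] [Module F V]

theorem adjoin_top {ξ : K} (hd : (minpoly F ξ).natDegree = finrank F K) : Algebra.adjoin F {ξ} = ⊤ := by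
  have hint : IsIntegral F ξ := Algebra.IsIntegral.isIntegral _
  have h1 : IntermediateField.adjoin F {ξ} = ⊤ := by
    apply IntermediateField.eq_of_le_of_finrank_eq le_top
    rw [IntermediateField.adjoin.finrank hint, hd, IntermediateField.finrank_top']
  rw [← IntermediateField.adjoin_simple_toSubalgebra_of_isAlgebraic hint.isAlgebraic, h1]
  rfl

/-- the automorphism given by a unit -/
def toE {R : Type*} [Ring R] [Algebra F R] (ρ : R →ₐ[F] Module.End F V) (k : Rˣ) : V ≃ₗ[F] V :=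
  LinearMap.GeneralLinearGroup.generalLinearEquiv F V (Units.map (ρ : R →* Module.End F V) k)

theorem coe_toE {R : Type*} [Ring R] [Algebra F R] (ρ : R →ₐ[F] Module.End F V) (k : Rˣ) :
    ((toE ρ k : V ≃ₗ[F] V) : Module.End F V) = ρ k := by
  ext v
  rfl

theorem toE_pow {R : Type*} [Ring R] [Algebra F R] (ρ : R →ₐ[F] Module.End F V) (k : Rˣ) (n : ℕ) :
    toE ρ (k ^ n) = toE ρ k ^ n := by
  rw [toE, map_pow, map_pow]
  rfl

theorem toE_one {R : Type*} [Ring R] [Algebra F R] (ρ : R →ₐ[F] Module.End F V) : toE ρ 1 = 1 := by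
  rw [toE, map_one, map_one]

theorem toE_inv {R : Type*} [Ring R] [Algebra F R] (ρ : R →ₐ[F] Module.End F V) (k : Rˣ) :
    toE ρ k⁻¹ = (toE ρ k)⁻¹ := by
  rw [toE, map_inv, map_inv]
  rfl

theorem apply_eq_zero (ρ : K →ₐ[F] Module.End F V) {k : K} (hk : k ≠ 0) {v : V} (h : ρ k v = 0) : v = 0 := by
  have h1 : ρ k⁻¹ (ρ k v) = v := by
    rw [← Module.End.mul_apply, ← map_mul, inv_mul_cancel₀ hk, map_one, Module.End.one_apply]
  rw [← h1, h, map_zero]

/-- **good elements** -/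
theorem ep_of_aeval {p e N : ℕ} (hN : N.Coprime p) {ζ : K} (h0 : ζ ≠ 0) (hζ : ζ ^ N = 1)
    (hd : (minpoly F (ζ ^ e)).natDegree = finrank F K) (h1 : aeval (ζ ^ e)⁻¹ (minpoly F (ζ ^ e)) ≠ 0)
    (h2 : aeval (ζ ^ e) (minpoly F (ζ ^ e)⁻¹) ≠ 0) {x : V ≃ₗ[F] V}
    (hx : aeval (x : Module.End F V) (minpoly F (ζ ^ e)) = 0) : EP p e x := by
  have hint : IsIntegral F (ζ ^ e) := Algebra.IsIntegral.isIntegral _
  let pb := PowerBasis.ofAdjoinEqTop hint (adjoin_top hd)
  have hgen : pb.gen = ζ ^ e := PowerBasis.ofAdjoinEqTop_gen _ _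
  let ρ : K →ₐ[F] Module.End F V := pb.lift (x : Module.End F V) (by rw [hgen]; exact hx)
  have hρ : ρ (ζ ^ e) = (x : Module.End F V) := by
    rw [← hgen]
    exact pb.lift_gen _ _
  let u : Kˣ := Units.mk0 ζ h0
  have hxe : toE ρ (u ^ e) = x := by
    apply LinearEquiv.toLinearMap_injective
    rw [coe_toE, Units.val_pow_eq_pow_val]
    exact hρ
  have hxi : ((x⁻¹ : V ≃ₗ[F] V) : Module.End F V) = ρ (ζ ^ e)⁻¹ := by
    rw [← hxe, ← toE_inv, coe_toE, Units.val_inv_eq_inv_val, Units.val_pow_eq_pow_val]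
    rfl
  refine ⟨⟨toE ρ u, N, hN, ?_, ?_⟩, minpoly F (ζ ^ e), minpoly F (ζ ^ e)⁻¹, ?_, ?_, ?_, ?_⟩
  · rw [← toE_pow, show u ^ N = 1 from Units.ext hζ, toE_one]
  · rw [← toE_pow, hxe]
  · intro v
    rw [hx, LinearMap.zero_apply]
  · intro v hv
    rw [hxi, aeval_algHom_apply] at hv
    exact apply_eq_zero ρ h1 hv
  · intro v
    rw [hxi, aeval_algHom_apply, minpoly.aeval, map_zero, LinearMap.zero_apply]
  · intro v hv
    rw [← hρ, aeval_algHom_apply] at hv
    exact apply_eq_zero ρ h2 hv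

end ep

section main
variable {F K : Type*} [Field F] [Field K] [Algebra F K] [FiniteDimensional F K]

theorem exists_d {ξ : K} (h0 : ξ ≠ 0) (hdeg : 3 ≤ (minpoly F ξ).natDegree) {c : K →ₗ[F] F} (hc : c ≠ 0)
    (α β γ : F) : ∃ d : K, c d = α ∧ c (ξ * d) = β ∧ c (ξ⁻¹ * d) = γ := by
  let T : K →ₗ[F] F × F × F := c.prod ((c ∘ₗ LinearMap.mulLeft F ξ).prod (c ∘ₗ LinearMap.mulLeft F ξ⁻¹))
  have hT : LinearMap.range T = ⊤ := by
    by_contra hne
    obtain ⟨f, hf0, hf⟩ := Submodule.exists_le_ker_of_lt_top _ (lt_top_iff_ne_top.2 hne)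
    have key : ∀ d : K, f (1, 0, 0) * c d + f (0, 1, 0) * c (ξ * d) + f (0, 0, 1) * c (ξ⁻¹ * d) = 0 := by
      intro d
      have h1 : f (T d) = 0 := hf ⟨d, rfl⟩
      have h2 : T d = c d • ((1, 0, 0) : F × F × F) + c (ξ * d) • ((0, 1, 0) : F × F × F) +
          c (ξ⁻¹ * d) • ((0, 0, 1) : F × F × F) := by
        ext <;> simp [T]
      rw [h2, map_add, map_add, map_smul, map_smul, map_smul] at h1
      simp only [smul_eq_mul] at h1
      linear_combination h1
    obtain ⟨μ, hμ⟩ : ∃ μ : K, μ = algebraMap F K (f (1, 0, 0)) + algebraMap F K (f (0, 1, 0)) * ξ +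
        algebraMap F K (f (0, 0, 1)) * ξ⁻¹ := ⟨_, rfl⟩
    have key2 : ∀ d : K, c (μ * d) = 0 := by
      intro d
      have h1 : μ * d = f (1, 0, 0) • d + f (0, 1, 0) • (ξ * d) + f (0, 0, 1) • (ξ⁻¹ * d) := by
        rw [hμ, Algebra.smul_def, Algebra.smul_def, Algebra.smul_def]
        ring
      rw [h1, map_add, map_add, map_smul, map_smul, map_smul]
      exact key d
    have hμ0 : μ = 0 := by
      by_contra hne
      apply hc
      ext k
      rw [LinearMap.zero_apply, ← key2 (μ⁻¹ * k), mul_inv_cancel_left₀ hne]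
    have hP : aeval ξ (C (f (0, 1, 0)) * X ^ 2 + C (f (1, 0, 0)) * X + C (f (0, 0, 1))) = 0 := by
      rw [map_add, map_add, map_mul, map_mul, map_pow, aeval_X, aeval_C, aeval_C, aeval_C]
      have h1 : ξ * μ = 0 := by rw [hμ0, mul_zero]
      rw [hμ] at h1
      have h2 : ξ * ξ⁻¹ = 1 := mul_inv_cancel₀ h0
      linear_combination h1 - algebraMap F K (f (0, 0, 1)) * h2
    have hP0 : C (f (0, 1, 0)) * X ^ 2 + C (f (1, 0, 0)) * X + C (f (0, 0, 1)) = 0 := by
      by_contra hne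
      have h1 := natDegree_le_natDegree (minpoly.degree_le_of_ne_zero F ξ hne hP)
      have h2 := natDegree_quadratic_le (a := f (0, 1, 0)) (b := f (1, 0, 0)) (c := f (0, 0, 1))
      omega
    apply hf0
    have c0 := congrArg (fun P => coeff P 0) hP0
    have c1 := congrArg (fun P => coeff P 1) hP0
    have c2 := congrArg (fun P => coeff P 2) hP0
    simp only [coeff_add, coeff_C_mul, coeff_X_pow, coeff_X, coeff_C, coeff_zero] at c0 c1 c2
    norm_num at c0 c1 c2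
    refine LinearMap.ext fun t => ?_
    have h2 : t = t.1 • ((1, 0, 0) : F × F × F) + t.2.1 • ((0, 1, 0) : F × F × F) +
        t.2.2 • ((0, 0, 1) : F × F × F) := by
      ext <;> simp
    rw [h2, map_add, map_add, map_smul, map_smul, map_smul, c0, c1, c2, LinearMap.zero_apply, smul_zero, smul_zero,
      smul_zero, add_zero, add_zero]
  obtain ⟨d, hd⟩ : (α, β, γ) ∈ LinearMap.range T := by rw [hT]; trivial
  refine ⟨d, ?_, ?_, ?_⟩
  · exact congrArg Prod.fst hd
  · exact congrArg (fun t => t.2.1) hd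
  · exact congrArg (fun t => t.2.2) hd

/-- transvections -/
def tv {V : Type*} [AddCommGroup V] [Module F V] (c : V →ₗ[F] F) (d : V) (h : c d = 0) : V ≃ₗ[F] V :=
  LinearEquiv.ofLinearMap (LinearMap.id + c.smulRight d) (LinearMap.id - c.smulRight d)
    (by ext v; simp [h]) (by ext v; simp [h])

theorem tv_apply {V : Type*} [AddCommGroup V] [Module F V] (c : V →ₗ[F] F) (d : V) (h : c d = 0) (v : V) :
    tv c d h v = v + c v • d := rfl

theorem tv_symm_apply {V : Type*} [AddCommGroup V] [Module F V] (c : V →ₗ[F] F) (d : V) (h : c d = 0) (v : V) :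
    (tv c d h).symm v = v - c v • d := rfl

end main

/-- two decompositions -/
theorem exists_conj {F V K : Type*} [Field F] [AddCommGroup V] [Module F V] [FiniteDimensional F V] [AddCommGroup K]
    [Module F K] [FiniteDimensional F K] {s : ℕ} (hs : 2 ≤ s) (hV : finrank F V = s) (hK : finrank F K = s)
    {U : Submodule F V} (hU : finrank F U = s - 2) {p₁ p₂ : V} (hUp : U ⊔ Submodule.span F {p₁, p₂} = ⊤)
    {U' : Submodule F K} (hU' : s - 2 ≤ finrank F U') {q₁ q₂ : K}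
    (hind : ∀ u ∈ U', ∀ x y : F, u + (x • q₁ + y • q₂) = 0 → u = 0 ∧ x = 0 ∧ y = 0) :
    ∃ φ : V ≃ₗ[F] K, (∀ u ∈ U, φ u ∈ U') ∧ φ p₁ = q₁ ∧ φ p₂ = q₂ := by
  let T : (U × F × F) →ₗ[F] V := U.subtype.coprod ((LinearMap.toSpanSingleton F V p₁).coprod
    (LinearMap.toSpanSingleton F V p₂))
  let T' : (U' × F × F) →ₗ[F] K := U'.subtype.coprod ((LinearMap.toSpanSingleton F K q₁).coprod
    (LinearMap.toSpanSingleton F K q₂))
  have hT : ∀ (u : U) (x y : F), T (u, x, y) = u + (x • p₁ + y • p₂) := fun u x y => rfl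
  have hT' : ∀ (u : U') (x y : F), T' (u, x, y) = u + (x • q₁ + y • q₂) := fun u x y => rfl
  have hsurj : Function.Surjective T := by
    intro v
    have h1 : v ∈ U ⊔ Submodule.span F {p₁, p₂} := by rw [hUp]; trivial
    obtain ⟨u, hu, w, hw, rfl⟩ := Submodule.mem_sup.1 h1
    obtain ⟨x, y, rfl⟩ := Submodule.mem_span_pair.1 hw
    exact ⟨(⟨u, hu⟩, x, y), rfl⟩
  have hf1 : finrank F (U × F × F) = s := by
    rw [finrank_prod, finrank_prod, finrank_self, hU]
    omega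
  have hinj : Function.Injective T :=
    (LinearMap.injective_iff_surjective_of_finrank_eq_finrank (by rw [hf1, hV])).2 hsurj
  have hinj' : Function.Injective T' := by
    rw [← LinearMap.ker_eq_bot, LinearMap.ker_eq_bot']
    rintro ⟨u, x, y⟩ h
    obtain ⟨h1, h2, h3⟩ := hind u u.2 x y h
    ext
    · exact h1
    · exact h2
    · exact h3
  have hf2 : finrank F (U' × F × F) = finrank F U' + 2 := by
    rw [finrank_prod, finrank_prod, finrank_self]
  have hf3 := LinearMap.finrank_le_finrank_of_injective hinj'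
  have hf4 : finrank F U' = s - 2 := by omega
  have hsurj' : Function.Surjective T' :=
    (LinearMap.injective_iff_surjective_of_finrank_eq_finrank (by omega)).1 hinj'
  let θ : U ≃ₗ[F] U' := LinearEquiv.ofFinrankEq U U' (by rw [hU, hf4])
  let ET : (U × F × F) ≃ₗ[F] V := LinearEquiv.ofBijective T ⟨hinj, hsurj⟩
  let ET' : (U' × F × F) ≃ₗ[F] K := LinearEquiv.ofBijective T' ⟨hinj', hsurj'⟩
  have hET : ∀ t, ET t = T t := fun t => rfl
  have hET' : ∀ t, ET' t = T' t := fun t => rfl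
  let φ : V ≃ₗ[F] K := ET.symm.trans ((θ.prodCongr (LinearEquiv.refl F (F × F))).trans ET')
  have hφ : ∀ (u : U) (x y : F), φ (T (u, x, y)) = T' (θ u, x, y) := by
    intro u x y
    show ET' ((θ.prodCongr (LinearEquiv.refl F (F × F))) (ET.symm (ET (u, x, y)))) = _
    rw [ET.symm_apply_apply]
    rfl
  refine ⟨φ, ?_, ?_, ?_⟩
  · intro u hu
    have h1 := hφ ⟨u, hu⟩ 0 0
    rw [hT, hT'] at h1
    simp only [zero_smul, add_zero] at h1
    rw [h1]
    exact (θ ⟨u, hu⟩).2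
  · have h1 := hφ 0 1 0
    rw [hT, hT'] at h1
    simpa using h1
  · have h1 := hφ 0 0 1
    rw [hT, hT'] at h1
    simpa using h1

/-- **the block, dimension at least three** -/
theorem fac_three {F V K : Type*} [Field F] [AddCommGroup V] [Module F V] [FiniteDimensional F V] [Field K]
    [Algebra F K] [FiniteDimensional F K] (hF2 : (2 : F) ≠ 0) {s : ℕ} (hs : 3 ≤ s) (hV : finrank F V = s) (hK : finrank F K = s)
    {p e N : ℕ} (hN : N.Coprime p) {ζ : K} (h0 : ζ ≠ 0) (hζ : ζ ^ N = 1)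
    (hd : (minpoly F (ζ ^ e)).natDegree = s) (h1 : aeval (ζ ^ e)⁻¹ (minpoly F (ζ ^ e)) ≠ 0)
    (h2 : aeval (ζ ^ e) (minpoly F (ζ ^ e)⁻¹) ≠ 0) {U : Submodule F V}
    (hU : finrank F U = s - 2) {A : V ≃ₗ[F] V} (hA : ∀ v ∈ U, A v = v) {p₁ p₂ : V} (hp₁ : A p₁ = p₂)
    (hp₂ : A p₂ = -p₁) (hUp : U ⊔ Submodule.span F {p₁, p₂} = ⊤) : Fac p e A := by
  have hξ0 : ζ ^ e ≠ 0 := pow_ne_zero _ h0
  obtain ⟨c, hc⟩ : ∃ c : K →ₗ[F] F, c ≠ 0 := by
    by_contra hcon
    push Not at hcon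
    exact one_ne_zero ((Module.forall_dual_apply_eq_zero_iff F (1 : K)).1 (fun φ => by
      rw [hcon φ, LinearMap.zero_apply]))
  obtain ⟨d, d0, d1, d2⟩ := exists_d hξ0 (by rw [hd]; exact hs) hc (0 : F) 1 2
  let ρ : K →ₐ[F] Module.End F K := Algebra.lmul F K
  let ξ : Kˣ := Units.mk0 (ζ ^ e) hξ0
  let Z : K ≃ₗ[F] K := toE ρ ξ
  have hZ : EP p e Z := by
    apply ep_of_aeval hN h0 hζ (by rw [hd, hK]) h1 h2
    rw [show ((Z : K ≃ₗ[F] K) : Module.End F K) = ρ (ζ ^ e) from coe_toE ρ ξ, aeval_algHom_apply, minpoly.aeval,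
      map_zero]
  have hZi : ∀ v : K, Z⁻¹ v = (ζ ^ e)⁻¹ * v := by
    intro v
    rw [show Z⁻¹ = toE ρ ξ⁻¹ from (toE_inv ρ ξ).symm]
    rfl
  have hZv : ∀ v : K, Z v = ζ ^ e * v := fun v => rfl
  let φ : K ≃ₗ[F] K := tv c d d0
  let Xm : K ≃ₗ[F] K := tr φ.symm Z
  have hX : EP p e Xm := hZ.conj _
  have hXv : ∀ v, Xm v = φ (ζ ^ e * (v - c v • d)) := fun v => rfl
  have hfac : Fac p e (Xm * Z⁻¹) := ⟨Xm, Z⁻¹, hX, hZ.inv, fun v => rfl⟩
  have hA' : ∀ v, (Xm * Z⁻¹) v = v + c v • d - c ((ζ ^ e)⁻¹ * v) • (ζ ^ e * d + d) := by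
    intro v
    rw [LinearEquiv.mul_apply, hXv, hZi, tv_apply, mul_sub, mul_inv_cancel_left₀ hξ0, mul_smul_comm, map_sub,
      map_smul, d1]
    simp only [smul_eq_mul, mul_one, sub_smul, smul_add]
    abel
  obtain ⟨q, hq⟩ : ∃ q, q = ζ ^ e * d + d := ⟨_, rfl⟩
  rw [← hq] at hA'
  have cq : c q = 1 := by rw [hq, map_add, d1, d0, add_zero]
  have cq' : c ((ζ ^ e)⁻¹ * q) = 2 := by
    rw [hq, mul_add, inv_mul_cancel_left₀ hξ0, map_add, d0, d2, zero_add]
  let c' : K →ₗ[F] F := c ∘ₗ LinearMap.mulLeft F (ζ ^ e)⁻¹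
  have hc' : ∀ v, c' v = c ((ζ ^ e)⁻¹ * v) := fun v => rfl
  obtain ⟨φ', hφU, hφ₁, hφ₂⟩ := exists_conj (by omega) hV hK hU hUp (U' := LinearMap.ker c ⊓ LinearMap.ker c')
    (q₁ := d) (q₂ := d - (2 : F) • q) (by
      have e1 := LinearMap.finrank_range_add_finrank_ker (c.prod c')
      have e2 : finrank F (LinearMap.range (c.prod c')) ≤ finrank F (F × F) := Submodule.finrank_le _
      rw [finrank_prod, finrank_self] at e2
      rw [LinearMap.ker_prod] at e1
      omega) (by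
      rintro u ⟨k1, k2⟩ x y h
      have k1' : c u = 0 := k1
      have k2' : c' u = 0 := k2
      have e1 := congrArg c h
      have e2 := congrArg c' h
      simp only [map_add, map_smul, map_sub, map_zero, smul_eq_mul, k1', k2', d0, cq, hc' d, hc' q, d2, cq'] at e1 e2
      have hy : y = 0 := by
        have : (2 : F) * y = 0 := by linear_combination -e1
        exact (mul_eq_zero.1 this).resolve_left hF2
      have hx : x = 0 := by
        have : (2 : F) * x = 0 := by linear_combination e2 + 2 * hy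
        exact (mul_eq_zero.1 this).resolve_left hF2
      subst hx hy
      simp only [zero_smul, add_zero] at h
      exact ⟨h, rfl, rfl⟩)
  refine hfac.conj φ' (fun v => ?_)
  have hv : v ∈ U ⊔ Submodule.span F {p₁, p₂} := by rw [hUp]; trivial
  obtain ⟨u, hu, w, hw, rfl⟩ := Submodule.mem_sup.1 hv
  obtain ⟨x, y, rfl⟩ := Submodule.mem_span_pair.1 hw
  obtain ⟨k1, k2⟩ := hφU u hu
  have k1' : c (φ' u) = 0 := k1
  have k2' : c' (φ' u) = 0 := k2
  have e0 : φ' (u + (x • p₁ + y • p₂)) = φ' u + (x • d + y • (d - (2 : F) • q)) := by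
    simp only [map_add, map_smul, hφ₁, hφ₂]
  have e1 : c (φ' (u + (x • p₁ + y • p₂))) = -(2 * y) := by
    rw [e0]
    simp only [map_add, map_smul, map_sub, k1', d0, cq, smul_eq_mul]
    ring
  have e2 : c' (φ' (u + (x • p₁ + y • p₂))) = 2 * x - 2 * y := by
    rw [e0]
    simp only [map_add, map_smul, map_sub, k2', hc' d, hc' q, d2, cq', smul_eq_mul]
    ring
  rw [hA', ← hc', e1, e2, e0]
  simp only [map_add, map_smul, map_neg, hA u hu, hp₁, hp₂, hφ₁, hφ₂]
  module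

/-- **the block, dimension two** -/
theorem fac_two {F V K : Type*} [Field F] [Finite F] [AddCommGroup V] [Module F V] [FiniteDimensional F V] [Field K]
    [Algebra F K] [FiniteDimensional F K] (hF2 : (2 : F) ≠ 0) (hV : finrank F V = 2) (hK : finrank F K = 2)
    {p e N : ℕ} (hN : N.Coprime p) {ζ : K} (h0 : ζ ≠ 0) (hζ : ζ ^ N = 1)
    (hd : (minpoly F (ζ ^ e)).natDegree = 2) (h1 : aeval (ζ ^ e)⁻¹ (minpoly F (ζ ^ e)) ≠ 0)
    (h2 : aeval (ζ ^ e) (minpoly F (ζ ^ e)⁻¹) ≠ 0) {A : V ≃ₗ[F] V} {p₁ p₂ : V} (hp₁ : A p₁ = p₂)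
    (hp₂ : A p₂ = -p₁) (hUp : Submodule.span F {p₁, p₂} = ⊤) : Fac p e A := by
  have hint : IsIntegral F (ζ ^ e) := Algebra.IsIntegral.isIntegral _
  have hξ0 : ζ ^ e ≠ 0 := pow_ne_zero _ h0
  obtain ⟨g, hg⟩ : ∃ g, g = minpoly F (ζ ^ e) := ⟨_, rfl⟩
  have hgm : g.Monic := hg ▸ minpoly.monic hint
  have hgd : g.natDegree = 2 := by rw [hg, hd]
  have hg0 : g.coeff 0 ≠ 0 := by
    rw [hg]
    exact minpoly.coeff_zero_ne_zero hint hξ0
  have hgq : g = X ^ 2 + C (g.coeff 1) * X + C (g.coeff 0) := by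
    have e1 := g.as_sum_range_C_mul_X_pow
    rw [hgd] at e1
    have e2 : g.coeff 2 = 1 := by
      have := hgm.coeff_natDegree
      rwa [hgd] at this
    conv_lhs => rw [e1]
    simp only [Finset.sum_range_succ, Finset.sum_range_zero, e2, C_1, pow_zero, pow_one]
    ring
  obtain ⟨τ, hτ⟩ : ∃ τ, τ = -g.coeff 1 := ⟨_, rfl⟩
  obtain ⟨h, hh⟩ : ∃ h, τ = 2 * h := ⟨2⁻¹ * τ, (mul_inv_cancel_left₀ hF2 τ).symm⟩
  obtain ⟨a0, b0, hab⟩ := exists_sq_add_sq hF2 (2 * h ^ 2 - g.coeff 0)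
  obtain ⟨a, ha⟩ : ∃ a, a = a0 + h := ⟨_, rfl⟩
  obtain ⟨u, hu⟩ : ∃ u, u = b0 - h := ⟨_, rfl⟩
  have hdet : a * (τ - a) - (τ + u) * u = g.coeff 0 := by
    rw [ha, hu, hh]
    linear_combination (-1 : F) * hab
  -- the basis
  have hli : LinearIndependent F ![p₁, p₂] := by
    apply linearIndependent_of_top_le_span_of_card_eq_finrank
    · rw [Matrix.range_cons_cons_empty, hUp]
    · rw [Fintype.card_fin, hV]
  let b : Basis (Fin 2) F V := basisOfLinearIndependentOfCardEqFinrank hli (by rw [Fintype.card_fin, hV])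
  have hb0 : b 0 = p₁ := by simp [b]
  have hb1 : b 1 = p₂ := by simp [b]
  let ρ : Matrix (Fin 2) (Fin 2) F →ₐ[F] Module.End F V := (Matrix.toLinAlgEquiv b).toAlgHom
  have hρ : ∀ (M : Matrix (Fin 2) (Fin 2) F) (j : Fin 2), ρ M (b j) = M 0 j • p₁ + M 1 j • p₂ := by
    intro M j
    have h3 := Matrix.toLinAlgEquiv_self b M j
    rw [Fin.sum_univ_two, hb0, hb1] at h3
    exact h3
  have good : ∀ M : Matrix (Fin 2) (Fin 2) F, M.trace = τ → M.det = g.coeff 0 →
      ∃ x : V ≃ₗ[F] V, EP p e x ∧ (x : Module.End F V) = ρ M := by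
    intro M ht hdM
    let m : GL (Fin 2) F := Matrix.GeneralLinearGroup.mkOfDetNeZero M (by rw [hdM]; exact hg0)
    refine ⟨toE ρ m, ?_, coe_toE ρ m⟩
    apply ep_of_aeval hN h0 hζ (by rw [hd, hK]) h1 h2
    rw [coe_toE, aeval_algHom_apply, ← hg]
    have h3 : M.charpoly = g := by
      rw [Matrix.charpoly_fin_two, ht, hdM, hτ]
      conv_rhs => rw [hgq]
      rw [C_neg]
      ring
    have h4 : aeval M g = 0 := by rw [← h3]; exact Matrix.aeval_self_charpoly M
    have h5 : ((m : GL (Fin 2) F) : Matrix (Fin 2) (Fin 2) F) = M := rfl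
    rw [h5, h4, map_zero]
  obtain ⟨z, hz, hz'⟩ := good !![a, τ + u; u, τ - a] (by simp [Matrix.trace_fin_two]) (by
    rw [Matrix.det_fin_two_of]; exact hdet)
  obtain ⟨x, hx, hx'⟩ := good !![-u, -(τ - a); a, τ + u] (by simp [Matrix.trace_fin_two]) (by
    rw [Matrix.det_fin_two_of, ← hdet]; ring)
  refine ⟨x, z⁻¹, hx, hz.inv, ?_⟩
  have key : (A : Module.End F V) * (z : Module.End F V) = (x : Module.End F V) := by
    rw [hz', hx']
    apply b.ext
    intro j
    rw [Module.End.mul_apply, hρ, hρ]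
    simp only [map_add, map_smul, LinearEquiv.coe_coe, hp₁, hp₂]
    fin_cases j
    · simp
      module
    · simp
      module
  intro v
  have h3 := LinearMap.congr_fun key (z⁻¹ v)
  rw [Module.End.mul_apply] at h3
  have h4 : (z : Module.End F V) (z⁻¹ v) = v := app_inv z v
  rw [h4] at h3
  exact h3

theorem coprime_card {F : Type*} [Field F] [Finite F] {p : ℕ} [CharP F p] {s : ℕ} (hs : s ≠ 0) :
    (Nat.card F ^ s - 1).Coprime p := by
  have _ : Fintype F := Fintype.ofFinite F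
  have hpp : p.Prime := (CharP.char_is_prime_or_zero F p).resolve_right (CharP.char_ne_zero_of_finite F p)
  rw [Nat.coprime_comm, hpp.coprime_iff_not_dvd]
  intro h2
  have h3 : p ∣ Nat.card F := by
    rw [Nat.card_eq_fintype_card]
    have := FiniteField.cast_card_eq_zero F
    exact (CharP.cast_eq_zero_iff F p _).1 this
  have h4 : p ∣ Nat.card F ^ s := h3.trans (dvd_pow_self _ hs)
  have h5 : 1 < Nat.card F ^ s := Nat.one_lt_pow hs Finite.one_lt_card
  have h6 : p ∣ 1 := by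
    have := Nat.dvd_sub h4 h2
    rwa [show Nat.card F ^ s - (Nat.card F ^ s - 1) = 1 by omega] at this
  exact hpp.one_lt.ne' (Nat.dvd_one.1 h6)

/-- **box J2** -/
theorem jBlock : JBlock := by
  intro F V _ _ _ _ _ hF2 p e s _ hs he hlt hV U hU A hA p₁ p₂ hp₁ hp₂ hUp
  obtain ⟨K, _, _, _, hK, ζ, h0, hζ, hd, h1, h2⟩ := H143.War.existsXi F hs he hlt
  have hN : (Nat.card F ^ s - 1).Coprime p := coprime_card (by omega)
  rcases Nat.lt_or_ge 2 s with h3 | h3
  · exact fac_three hF2 h3 hV hK hN h0 hζ hd h1 h2 hU hA hp₁ hp₂ hUp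
  · obtain rfl : s = 2 := by omega
    have hU0 : U = ⊥ := Submodule.finrank_eq_zero.1 hU
    rw [hU0, bot_sup_eq] at hUp
    exact fac_two hF2 hV hK hN h0 hζ hd h1 h2 hp₁ hp₂ hUp

end Cfsg.Agent.H950.War.JB
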