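import Cfsg.Agent.H98.Ore.CritB

/-!
# S2453 for `PSU_n(q)` (row L3): definitions (helper950)

`W B e N g` : `g` is `x ^ e * y ^ e` with isometries `x`, `y` of determinant one, `x ^ N = 1 = y ^ N`.
`PW q σ m e f` : `f` is the characteristic polynomial of an `e`-th power which is good for the criterion of S2446.
-/

set_option autoImplicit false

namespace Cfsg.Agent.H950.War

open Module Polynomial Cfsg.Agent.H951 Matrix Cfsg.Agent.H98.Ore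

/-- `g = x ^ e * y ^ e`, `x ^ N = 1 = y ^ N` -/
def W {F V : Type*} [Field F] [AddCommGroup V] [Module F V] (B : V → V → F) (e N : ℕ) (g : V ≃ₗ[F] V) : Prop :=
  ∃ x ∈ SGr B, ∃ y ∈ SGr B, g = x ^ e * y ^ e ∧ x ^ N = 1 ∧ y ^ N = 1

/-- the polynomials `f` we use -/
structure PW {F : Type*} [Field F] (q : ℕ) (σ : F →+* F) (m e : ℕ) (f : F[X]) : Prop where
  irr : Irreducible f
  monic : f.Monic
  deg : f.natDegree = m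
  c0 : σ (f.coeff 0) = f.coeff 0
  cop : IsCoprime f (f.map σ).reverse
  scal : ∀ l : F, l ^ (q + 1) = 1 → l ^ m = 1 → l ≠ 1 → f.scaleRoots l ≠ f
  root : ∀ {ι : Type} [Fintype ι] [DecidableEq ι] (Z : Matrix ι ι F), Z.charpoly = f →
    ∃ Z₀ : Matrix ι ι F, Z = Z₀ ^ e ∧ σ Z₀.det = Z₀.det ∧ Z₀ ^ (q ^ (2 * m) - 1) = 1

/-- **task P** -/
def ExistsPW : Prop := ∀ {F : Type} [Field F] [Fintype F] {q : ℕ} (_ : Fintype.card F = q ^ 2) (σ : F →+* F)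
  (_ : ∀ a, σ a = a ^ q) {m e : ℕ} (_ : 2 ≤ m) (_ : 1 ≤ e) (_ : e * (q + 1) < q ^ m - 1)
  (_ : e * m * (q + 1) ≤ (q ^ 2) ^ ((m + 1) / 2) ∨ (m = 2 ∧ q = 2)), ∃ f : F[X], PW q σ m e f

/-- **task N** -/
def Numeric : Prop := ∀ {n q M e : ℕ} (_ : 4 ≤ n) (_ : 2 ≤ q) (_ : 2 ≤ M) (_ : 1 ≤ e) (_ : M ^ (8 * M ^ 2) ≤ q ^ n ^ 2)
  (_ : e = 1 ∨ (6 ≤ M ∧ 2 * e ≤ M ^ 2)), e * (q + 1) < q ^ (n / 2) - 1 ∧
  (e * (n / 2) * (q + 1) ≤ (q ^ 2) ^ ((n / 2 + 1) / 2) ∨ (n / 2 = 2 ∧ q = 2))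

end Cfsg.Agent.H950.War
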