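import Cfsg.Agent.H950.War.Defs

/-!
# S2453 for `PSU_n(q)`: the criterion (helper950), after `Cfsg.Agent.H98.Ore.criterion`
-/

set_option autoImplicit false
set_option linter.unusedSectionVars false

namespace Cfsg.Agent.H950.War

open Module Polynomial Cfsg.Agent.H951 Matrix Cfsg.Agent.H98.Ore

variable {F V : Type*} [Field F] [Fintype F] [AddCommGroup V] [Module F V] [FiniteDimensional F V]
  {q : ℕ} {σ : F →+* F} {B : V → V → F}
  {ι : Type} [Fintype ι] [DecidableEq ι] {w w' : ι → V}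

/-- an isometry of determinant one fixing a frame -/
theorem fix_one (hB : HS q σ B) {e : ℕ} (he : e ≤ 1) (hn : finrank F V = 2 * Fintype.card ι + e) (h : Fr B w w')
    {x : V ≃ₗ[F] V} (hx : x ∈ SGr B) (hxw : ∀ j, x (w j) = w j) (hxw' : ∀ j, x (w' j) = w' j) : x = 1 := by
  obtain ⟨l, hl⟩ := exists_FF hB he hn h
  have hxi := (mem_SGr.1 hx).1
  have hlx : ∀ i, x (l i) = l i := by
    intro i
    have he1 : e = 1 := by have := i.2; omega
    subst he1
    obtain rfl : i = 0 := Subsingleton.elim _ _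
    have hd1 := hl.det_eq hB (x := (x : End F V)) hxi (Z := 1) (by simp)
      (fun j => by show x (w j) = _; rw [hxw]; simp [Matrix.one_apply])
    rw [Matrix.det_one, map_one, mul_one, one_mul, Matrix.det_fin_one, Matrix.of_apply,
      show LinearMap.det (x : End F V) = 1 from (mem_SGr.1 hx).2] at hd1
    have hd2 : B (x (l 0)) (l 0) = 1 := hd1.symm
    have h1 := hl.expand hB (x (l 0))
    have e1 : ∀ i, B (x (l 0)) (w' i) = 0 := by
      intro i
      rw [← hxw' i, hxi, hl.lw']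
    have e2 : ∀ i, B (x (l 0)) (w i) = 0 := by
      intro i
      rw [← hxw i, hxi, hl.lw]
    simp only [e1, e2, zero_smul, Finset.sum_const_zero, zero_add, Fin.sum_univ_one, hd2, one_smul] at h1
    exact h1
  apply LinearEquiv.ext
  intro v
  rw [hl.expand hB v, map_add, map_add, map_sum, map_sum, map_sum]
  simp only [map_smul, hxw, hxw', hlx]
  rfl

/-- the powers of a map preserving a span -/
theorem pow_frame {x : V ≃ₗ[F] V} {Z : Matrix ι ι F} (hxw : ∀ j, x (w j) = ∑ i, Z i j • w i) (n : ℕ) :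
    ∀ j, (x ^ n) (w j) = ∑ i, (Z ^ n) i j • w i := by
  induction n with
  | zero => intro j; simp [Matrix.one_apply]
  | succ n ih =>
    intro j
    rw [pow_succ, LinearEquiv.mul_apply, hxw, map_sum]
    simp only [map_smul, ih, Finset.smul_sum, smul_smul]
    rw [Finset.sum_comm]
    simp only [← Finset.sum_smul]
    refine Finset.sum_congr rfl fun i _ => ?_
    rw [pow_succ, Matrix.mul_apply]
    congr 1
    exact Finset.sum_congr rfl fun k _ => mul_comm _ _

theorem ist_one (hB : HS q σ B) : ist σ (1 : Matrix ι ι F) = 1 := by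
  ext i j
  rw [ist_apply, inv_one, Matrix.one_apply, Matrix.one_apply]
  by_cases h : i = j
  · rw [if_pos h, if_pos h.symm, map_one]
  · rw [if_neg h, if_neg (Ne.symm h), map_zero]

theorem ist_pow (hB : HS q σ B) (Z : Matrix ι ι F) (n : ℕ) : ist σ (Z ^ n) = ist σ Z ^ n := by
  induction n with
  | zero => rw [pow_zero, pow_zero, ist_one hB]
  | succ n ih => rw [pow_succ, ist_mul, ih, pow_succ]

/-- an isometry of determinant one with a prescribed action on a frame -/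
theorem exists_lev (hB : HS q σ B) {e : ℕ} (he : e ≤ 1) (hn : finrank F V = 2 * Fintype.card ι + e) (h : Fr B w w')
    {Z : Matrix ι ι F} (hZ0 : Z.det ≠ 0) (hZ : e = 0 → σ Z.det = Z.det) :
    ∃ x ∈ SGr B, (∀ j, x (w j) = ∑ i, Z i j • w i) ∧ ∀ j, x (w' j) = ∑ i, ist σ Z i j • w' i := by
  obtain ⟨x₀, hx, hxw, hxw', hxd⟩ := exists_isom hB he hn h (h.trans hB (ist_dual hB hZ0))
  have hxd1 : LinearMap.det x₀ = 1 := by
    rcases Nat.le_one_iff_eq_zero_or_eq_one.1 he with h0 | h0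
    · have h3 := det_even hB (by rw [hn, h0, add_zero]) h hx hZ0 hxw
      rw [hZ h0] at h3
      exact mul_right_cancel₀ hZ0 (by rw [h3, one_mul])
    · exact hxd h0
  set x : V ≃ₗ[F] V := LinearEquiv.ofInjectiveEndo x₀ (Isom.inj' hB hx) with hxdef
  have hx0 : (x : V →ₗ[F] V) = x₀ := by ext v; rfl
  exact ⟨x, mem_SGr.2 ⟨hx, by rw [hx0, hxd1]⟩, hxw, hxw'⟩

/-- **the criterion** -/
theorem criterionW (hB : HS q σ B) {G : V ≃ₗ[F] V} (hGmem : G ∈ SGr B)
    (hι : finrank F V = 2 * Fintype.card ι ∨ finrank F V = 2 * Fintype.card ι + 1) {P Z₀ h : Matrix ι ι F} {t N : ℕ}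
    (hP : Cor B (G : End F V) P) (hPZ : P * Z₀ ^ t * h = h * Z₀ ^ t) (hh : h.det = 1) (hZ₀ : Z₀.det ≠ 0)
    (hZσ : finrank F V = 2 * Fintype.card ι → σ Z₀.det = Z₀.det) (hN : Z₀ ^ N = 1)
    (h1 : IsCoprime (Z₀ ^ t).charpoly ((Z₀ ^ t).charpoly.map σ).reverse)
    (h2 : (Z₀ ^ t).charpoly.eval (σ (Z₀ ^ t).det * (Z₀ ^ t).det⁻¹) ≠ 0) : W B t N G := by
  obtain ⟨w, w', hw, hPw⟩ := hP
  obtain ⟨e, he, hn⟩ : ∃ e, e ≤ 1 ∧ finrank F V = 2 * Fintype.card ι + e := by
    rcases hι with h3 | h3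
    · exact ⟨0, by norm_num, by omega⟩
    · exact ⟨1, le_rfl, h3⟩
  set Z := Z₀ ^ t with hZdef
  have hZ0 : Z.det ≠ 0 := by rw [hZdef, Matrix.det_pow]; exact pow_ne_zero _ hZ₀
  have hZ : finrank F V = 2 * Fintype.card ι → σ Z.det = Z.det := fun h3 => by
    rw [hZdef, Matrix.det_pow, map_pow, hZσ h3]
  have hPZ0 : (P * Z).det ≠ 0 := by
    have h3 := congrArg Matrix.det hPZ
    rw [Matrix.det_mul, Matrix.det_mul h, hh, mul_one, one_mul] at h3
    rw [h3]; exact hZ0
  have hh0 : h.det ≠ 0 := by rw [hh]; exact one_ne_zero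
  have hGg : ∀ v, B (G v) = B ((G : End F V) v) := fun v => rfl
  -- the frame for z
  have hfr : Fr B (fun j => ∑ i, Z i j • w i) (fun j => G⁻¹ (∑ i, ist σ (P * Z) i j • w' i)) := by
    have hGG : ∀ v, G (G⁻¹ v) = v := fun v => by
      rw [← LinearEquiv.mul_apply, mul_inv_cancel]; rfl
    have hg := (mem_SGr.1 hGmem).1
    refine ⟨fun i j => ?_, fun i j => ?_, fun i j => ?_⟩
    · rw [sum_left' hB]
      simp only [sum_right' hB]
      simp [hw.ww]
    · rw [← hg, hGG, map_sum]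
      simp only [map_smul]
      rw [sum_left' hB]
      simp only [sum_right' hB]
      have hPw' : ∀ i j, B (G (w j)) (w' i) = P i j := hPw
      simp only [hPw']
      rw [← ist_dual hB hPZ0 i j]
      simp only [Matrix.mul_apply, Finset.sum_mul, Finset.mul_sum]
      rw [Finset.sum_comm]
      refine Finset.sum_congr rfl fun k _ => Finset.sum_congr rfl fun m _ => ?_
      ring
    · rw [← hg, hGG, hGG, sum_left' hB]
      simp only [sum_right' hB]
      simp [hw.ww']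
  -- the isometries
  obtain ⟨z₀, hz, hzw, hzw', hzd⟩ := exists_isom hB he hn hw hfr
  obtain ⟨X, hXm, hXw, hXw'⟩ := exists_lev hB he hn hw hZ₀ (fun h0 => hZσ (by rw [hn, h0, add_zero]))
  obtain ⟨k, hkm, -, hkw1'⟩ := exists_lev hB he hn hw hh0 (fun _ => by rw [hh, map_one])
  have hzd1 : LinearMap.det z₀ = 1 := by
    rcases Nat.le_one_iff_eq_zero_or_eq_one.1 he with h0 | h0
    · have h3 := det_even hB (by rw [hn, h0, add_zero]) hw hz hZ0 hzw
      rw [hZ (by rw [hn, h0, add_zero])] at h3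
      exact mul_right_cancel₀ hZ0 (by rw [h3, one_mul])
    · exact hzd h0
  have hXN : X ^ N = 1 := by
    refine fix_one hB he hn hw ((SGr B).pow_mem hXm N) (fun j => ?_) (fun j => ?_)
    · rw [pow_frame hXw, hN]
      simp [Matrix.one_apply]
    · rw [pow_frame hXw', ← ist_pow hB, hN, ist_one hB]
      simp [Matrix.one_apply]
  set x : V ≃ₗ[F] V := X ^ t with hxdef
  have hxm : x ∈ SGr B := (SGr B).pow_mem hXm t
  have hxw1 : ∀ j, x (w j) = ∑ i, Z i j • w i := pow_frame hXw t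
  have hxw1' : ∀ j, x (w' j) = ∑ i, ist σ Z i j • w' i := by
    intro j
    rw [hZdef, ist_pow hB]
    exact pow_frame hXw' t j
  set z : V ≃ₗ[F] V := LinearEquiv.ofInjectiveEndo z₀ (Isom.inj' hB hz) with hzdef
  have hz0 : (z : V →ₗ[F] V) = z₀ := by ext v; rfl
  have hzm : z ∈ SGr B := mem_SGr.2 ⟨hz, by rw [hz0, hzd1]⟩
  have hzw1 : ∀ j, z (w j) = ∑ i, Z i j • w i := hzw
  have hzw1' : ∀ j, z (w' j) = G⁻¹ (∑ i, ist σ (P * Z) i j • w' i) := hzw'
  have hfw : ∀ j, aeval (x : End F V) Z.charpoly (w j) = 0 := by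
    intro j
    rw [aeval_frame (x := (x : End F V)) hxw1, Matrix.aeval_self_charpoly]
    simp
  obtain ⟨u₁, hu₁, hzu⟩ := conj_same hB he hn hw hxm hzm hZ0 hxw1 hzw1 hfw h1 (fun _ => h2)
  -- the second conjugation
  set y : V ≃ₗ[F] V := k⁻¹ * (G * z) * k with hydef
  have hym : y ∈ SGr B :=
    (SGr B).mul_mem ((SGr B).mul_mem ((SGr B).inv_mem hkm) ((SGr B).mul_mem hGmem hzm)) hkm
  have hcomp : ∀ (X Y : Matrix ι ι F) (a : V ≃ₗ[F] V), (∀ j, a (w' j) = ∑ i, X i j • w' i) →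
      ∀ j, a (∑ i, Y i j • w' i) = ∑ i, (X * Y) i j • w' i := by
    intro X Y a ha j
    rw [map_sum]
    simp only [map_smul, ha, Finset.smul_sum, smul_smul]
    rw [Finset.sum_comm]
    simp only [← Finset.sum_smul]
    refine Finset.sum_congr rfl fun i _ => ?_
    rw [Matrix.mul_apply]
    congr 1
    exact Finset.sum_congr rfl fun k _ => mul_comm _ _
  have hGz : ∀ j, (G * z) (w' j) = ∑ i, ist σ (P * Z) i j • w' i := by
    intro j
    rw [LinearEquiv.mul_apply, hzw1', ← LinearEquiv.mul_apply, mul_inv_cancel]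
    rfl
  have hyw' : ∀ j, y (w' j) = ∑ i, ist σ Z i j • w' i := by
    intro j
    have h3 : k (∑ i, ist σ Z i j • w' i) = (G * z) (k (w' j)) := by
      rw [hcomp _ _ k hkw1', hkw1', hcomp _ _ (G * z) hGz, ← ist_mul, ← ist_mul, hPZ]
    rw [hydef, LinearEquiv.mul_apply, LinearEquiv.mul_apply, ← h3, ← LinearEquiv.mul_apply, inv_mul_cancel]
    rfl
  have hcoeff : Z.charpoly.coeff 0 ≠ 0 := by
    intro h0
    apply hZ0
    rw [Matrix.det_eq_sign_charpoly_coeff, h0, mul_zero]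
  have hxinv : (x : End F V) * ((x⁻¹ : V ≃ₗ[F] V) : End F V) = 1 := by
    ext v
    change x (x⁻¹ v) = v
    rw [← LinearEquiv.mul_apply, mul_inv_cancel]; rfl
  have hxinv' : ((x⁻¹ : V ≃ₗ[F] V) : End F V) * (x : End F V) = 1 := by
    ext v
    change x⁻¹ (x v) = v
    rw [← LinearEquiv.mul_apply, inv_mul_cancel]; rfl
  have hx : Isom B (x : End F V) := (mem_SGr.1 hxm).1
  have hfw' : ∀ j, aeval (x : End F V) (Z.charpoly.map σ).reverse (w' j) = 0 := by
    intro j
    have h3 := aeval_frame (x := (x : End F V)) (w := w') hxw1' (Z.charpoly.map σ).reverse j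
    rw [h3]
    apply Finset.sum_eq_zero
    intro i _
    have h4 : B (aeval (x : End F V) (Z.charpoly.map σ).reverse (w' j)) (w i) = 0 := by
      rw [B_aeval hB (x := (x : End F V)) hx hxinv, map_rev_map hB.ss, aeval_reverse' hxinv', Module.End.mul_apply, hfw, map_zero,
        hB.zero_right]
    rw [h3, sum_left' hB] at h4
    simp only [hw.dual' hB, mul_ite, mul_one, mul_zero, Finset.sum_ite_eq', Finset.mem_univ, if_true] at h4
    rw [h4, zero_smul]
  have hσZ0 : σ Z.det ≠ 0 := (map_ne_zero σ).2 hZ0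
  have hist0 : (ist σ Z).det ≠ 0 := by
    rw [det_ist, map_inv₀]
    exact inv_ne_zero hσZ0
  obtain ⟨u₂, hu₂, hyu⟩ := conj_same hB he hn (hw.swap hB) hxm hym hist0 hxw1' hyw' hfw' (by
    rw [map_rev_map hB.ss, reverse_reverse' hcoeff]
    exact h1.symm) (by
    intro _ h3
    apply h2
    rw [det_ist, map_inv₀, inv_inv, map_inv₀, hB.ss] at h3
    set c := σ Z.det * Z.det⁻¹ with hcdef
    have hc0 : c ≠ 0 := mul_ne_zero hσZ0 (inv_ne_zero hZ0)
    have h4 : (Z.det)⁻¹ * σ Z.det = c := mul_comm _ _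
    rw [h4] at h3
    let _ : Invertible c⁻¹ := invertibleOfNonzero (inv_ne_zero hc0)
    have h5 := eval₂_reverse_eq_zero_iff (RingHom.id F) (c⁻¹) (Z.charpoly.map σ)
    have h6 : (⅟(c⁻¹) : F) = c := by rw [invOf_eq_inv, inv_inv]
    rw [h6, ← eval, h3, eq_self_iff_true, true_iff, ← eval, eval_map] at h5
    have h7 : c⁻¹ = σ c := by
      rw [hcdef, map_mul, map_inv₀, hB.ss, mul_inv, inv_inv, mul_comm]
    rw [h7, eval₂_at_apply] at h5
    exact (map_eq_zero σ).1 h5)
  -- assemble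
  refine ⟨k * u₂ * X * (k * u₂)⁻¹, (SGr B).mul_mem ((SGr B).mul_mem ((SGr B).mul_mem hkm hu₂) hXm)
    ((SGr B).inv_mem ((SGr B).mul_mem hkm hu₂)), u₁ * X⁻¹ * u₁⁻¹,
    (SGr B).mul_mem ((SGr B).mul_mem hu₁ ((SGr B).inv_mem hXm)) ((SGr B).inv_mem hu₁), ?_, ?_, ?_⟩
  · rw [conj_pow, conj_pow, inv_pow, ← hxdef]
    have h3 : G * z = k * y * k⁻¹ := by rw [hydef]; group
    have h5 : G = (k * y * k⁻¹) * z⁻¹ := by rw [← h3]; group
    rw [h5, hyu, hzu]
    group
  · rw [conj_pow, hXN]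
    group
  · rw [conj_pow, inv_pow, hXN]
    group

end Cfsg.Agent.H950.War
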