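import Cfsg.Agent.H950.War.EPoly
import Cfsg.Agent.H544.War.Card
import Cfsg.Agent.LieClassical.OrthForms

/-!
# S2453, L5/L6: the conditions for the Witt indices 3 and 4 (helper950)

`cond_odd_three` : POmega_7(q), `cond_minus_three` : POmega^-_8(q), `cond_minus_four` : POmega^-_10(q), `q ≥ 3`.
-/

set_option autoImplicit false

namespace Cfsg.Agent.H950.War.EB

open Polynomial Cfsg Cfsg.Agent.H295.War Cfsg.Agent.H544.War Cfsg.Agent.H130.War QuadraticMap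
  Cfsg.Agent.LieClassical.OrthCore Cfsg.Agent.LieClassical.OrthTrans Cfsg.Agent.LieClassical.OrthFinite
  Cfsg.Agent.LieClassical.OrthForms Cfsg.Agent.H140.OreO

theorem pow_mono_M {a M : ℕ} (ha : 2 ≤ a) (h : a ≤ M) : a ^ (8 * a ^ 2) ≤ M ^ (8 * M ^ 2) :=
  (Nat.pow_le_pow_left h _).trans
    (Nat.pow_le_pow_right (by omega) (Nat.mul_le_mul_left 8 (Nat.pow_le_pow_left h 2)))

/-- the numbers -/
theorem numB {N M e q m : ℕ} (hm : m = 3 ∨ m = 4) (hN : N ≤ 2 * m + 2) (hq : 2 ≤ q) (hM : 2 ≤ M) (he0 : 1 ≤ e)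
    (he : 2 * e ≤ M ^ 2) (he1 : M ≤ 5 → e = 1) (h : M ^ (8 * M ^ 2) ≤ q ^ (N * (N - 1) / 2))
    (hq3 : m = 4 → 3 ≤ q) (h3 : q = 3 → 3 ≤ M) (h5 : q = 5 → 5 ≤ M) :
    ¬ (q - 1) ∣ 4 * e ∧ 2 * e * (q ^ ((m - 1) / 2) + 1) < q ^ (m - 1) - 1 := by
  have hA : N * (N - 1) / 2 ≤ 45 := by
    have h4 : N * (N - 1) ≤ 10 * 9 := Nat.mul_le_mul (by omega) (by omega)
    omega
  have hA3 : m = 3 → N * (N - 1) / 2 ≤ 28 := by
    intro h3
    have h4 : N * (N - 1) ≤ 8 * 7 := Nat.mul_le_mul (by omega) (by omega)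
    omega
  have hle : M ^ (8 * M ^ 2) ≤ q ^ 45 := h.trans (Nat.pow_le_pow_right (by omega) hA)
  -- it is enough to have `q` large
  have key : ¬ (q - 1) ∣ 4 * e ∧ M ^ 2 + 1 ≤ q - 1 → 2 * e ≤ M ^ 2 →
      ¬ (q - 1) ∣ 4 * e ∧ 2 * e * (q ^ ((m - 1) / 2) + 1) < q ^ (m - 1) - 1 := by
    rintro ⟨h1, h2⟩ h3
    refine ⟨h1, ?_⟩
    have hm2 : (m - 1) / 2 = 1 := by omega
    rw [hm2, pow_one]
    have h4 : q ^ 2 ≤ q ^ (m - 1) := Nat.pow_le_pow_right (by omega) (by omega)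
    have h5 : 2 * e * (q + 1) < q ^ 2 - 1 := by
      obtain ⟨r, rfl⟩ : ∃ r, q = r + 1 := ⟨q - 1, by omega⟩
      rw [Nat.add_sub_cancel] at h2
      have h6 : (r + 1) ^ 2 - 1 = r * (r + 2) := by
        rw [show (r + 1) ^ 2 = r * (r + 2) + 1 by ring, Nat.add_sub_cancel]
      rw [h6]
      nlinarith
    omega
  by_cases hM5 : M ≤ 5
  · have e1 := he1 hM5
    subst e1
    have hq4 : 4 ≤ q := by
      by_contra hlt
      have : q = 2 ∨ q = 3 := by omega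
      rcases this with rfl | rfl
      · have hm3 : m = 3 := by
          rcases hm with hm | hm
          · exact hm
          · have := hq3 hm; omega
        have h6 : 2 ^ (8 * 2 ^ 2) ≤ 2 ^ 28 :=
          ((pow_mono_M le_rfl hM).trans h).trans (Nat.pow_le_pow_right (by norm_num) (hA3 hm3))
        norm_num at h6
      · have h6 : 3 ^ (8 * 3 ^ 2) ≤ 3 ^ 45 := (pow_mono_M (by norm_num) (h3 rfl)).trans hle
        have := (Nat.pow_le_pow_iff_right (by norm_num)).1 h6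
        omega
    have hq5 : q ≠ 5 := by
      rintro rfl
      have h6 : 5 ^ (8 * 5 ^ 2) ≤ 5 ^ 45 := (pow_mono_M (by norm_num) (h5 rfl)).trans hle
      have := (Nat.pow_le_pow_iff_right (by norm_num)).1 h6
      omega
    refine ⟨?_, ?_⟩
    · intro hd
      have h6 := Nat.le_of_dvd (by norm_num) hd
      have h7 : q - 1 = 3 := by omega
      rw [h7] at hd
      revert hd
      decide
    · have hm2 : (m - 1) / 2 = 1 := by omega
      rw [hm2, pow_one]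
      have h4 : q ^ 2 ≤ q ^ (m - 1) := Nat.pow_le_pow_right (by omega) (by omega)
      have h6 : 2 * 1 * (q + 1) < q ^ 2 - 1 := by
        apply Nat.lt_sub_of_add_lt
        nlinarith
      omega
  · have hM6 : 6 ≤ M := by omega
    have hqM : 2 * M ^ 2 + 1 < q := by
      by_contra hno
      push Not at hno
      have h1 : q ≤ M ^ 3 := by
        refine hno.trans ?_
        nlinarith [Nat.mul_le_mul_right (M ^ 2) hM6, pow_succ M 2]
      have h2 : M ^ (8 * M ^ 2) ≤ M ^ (3 * 45) := by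
        calc M ^ (8 * M ^ 2) ≤ q ^ 45 := hle
          _ ≤ (M ^ 3) ^ 45 := Nat.pow_le_pow_left h1 _
          _ = M ^ (3 * 45) := by rw [← pow_mul]
      have h3 : 8 * M ^ 2 ≤ 3 * 45 := (Nat.pow_le_pow_iff_right (by omega)).1 h2
      nlinarith
    refine key ⟨?_, by omega⟩ he
    intro hd
    have := Nat.le_of_dvd (by omega) hd
    omega

section final
variable {F : Type*} [Field F] [Fintype F] {p : ℕ} [hp : Fact p.Prime] [CharP F p] {m k l : ℕ}

omit hp in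
theorem p_dvd_card : p ∣ Nat.card F := by
  rw [Nat.card_eq_fintype_card]
  have := FiniteField.cast_card_eq_zero F
  exact (CharP.cast_eq_zero_iff F p _).1 this

/-- the common form: `N` = dimension, `m` = Witt index -/
theorem exists_pair {N c : ℕ} (hm : m = 3 ∨ m = 4) (hN : N ≤ 2 * m + 2) (hk : 2 ≤ k) (hl : 2 ≤ l)
    (hg : ¬ k.Coprime l) (hpd : p ∣ k ∨ p ∣ l) (hc : c ≤ Nat.card F ^ (N * (N - 1) / 2))
    (hbig : (max k l) ^ (8 * (max k l) ^ 2) ≤ c) (hq3 : m = 4 → 3 ≤ Nat.card F) :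
    (∃ f : F[X], GP p (ee p k l) m f) ∧ ∃ (c : F) (f : F[X]), G2P p (ee p k l) m c f := by
  have hq : 2 ≤ Nat.card F := Finite.one_lt_card
  have hee : 1 ≤ ee p k l := Nat.ordCompl_pos p (Nat.lcm_ne_zero (by omega) (by omega))
  have hpM : p ≤ max k l := by
    rcases hpd with h | h
    · exact (Nat.le_of_dvd (by omega) h).trans (le_max_left _ _)
    · exact (Nat.le_of_dvd (by omega) h).trans (le_max_right _ _)
  have hpq : ∀ r : ℕ, r.Prime → Nat.card F = r → r ≤ max k l := by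
    intro r hr h
    have h1 : p ∣ r := h ▸ p_dvd_card (F := F)
    rw [Nat.prime_dvd_prime_iff_eq hp.out hr] at h1
    omega
  obtain ⟨h1, h2⟩ := numB hm hN hq (le_max_of_le_left hk) hee (ee_le (by omega) hg)
    (fun h5 => ee_eq_one hp.out hk hl hg h5 hpd) (hbig.trans hc) hq3 (hpq 3 (by norm_num)) (hpq 5 (by norm_num))
  exact ⟨exists_gp_of_big (by omega) hN hk hl hg hpd hc hbig (Or.inl rfl), exists_g2p (by omega) hee h1 h2⟩

/-- the conclusion -/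
def Cond {V : Type*} [AddCommGroup V] [Module F V] (Q : QuadraticForm F V) (p e m : ℕ) : Prop :=
  ∀ g ∈ O Q, BaseCorner m Q g → ∃ x ∈ Om Q, ∃ y ∈ Om Q, g = x ^ e * y ^ e ∧ (orderOf x).Coprime p ∧
    (orderOf y).Coprime p

theorem cond_of {V : Type*} [AddCommGroup V] [Module F V] [FiniteDimensional F V] {Q : QuadraticForm F V}
    (hQ : Nondeg Q) {N c : ℕ} (hm : m = 3 ∨ m = 4) (hN : N ≤ 2 * m + 2) (hk : 2 ≤ k) (hl : 2 ≤ l)
    (hg : ¬ k.Coprime l) (hpd : p ∣ k ∨ p ∣ l) (hc : c ≤ Nat.card F ^ (N * (N - 1) / 2))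
    (hbig : (max k l) ^ (8 * (max k l) ^ 2) ≤ c) (hq3 : m = 4 → 3 ≤ Nat.card F) : Cond Q p (ee p k l) m := by
  intro g hgO hB
  have hee : 1 ≤ ee p k l := Nat.ordCompl_pos p (Nat.lcm_ne_zero (by omega) (by omega))
  obtain ⟨⟨f, hf⟩, c, f', hf'⟩ := exists_pair (F := F) hm hN hk hl hg hpd hc hbig hq3
  exact rowB hQ (by omega) hgO hB hee hf hf'

/-- **POmega_7(q)** -/
theorem cond_odd_three (ho : Odd (Fintype.card F)) (hk : 2 ≤ k) (hl : 2 ≤ l) (hg : ¬ k.Coprime l)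
    (hpd : p ∣ k ∨ p ∣ l) (hbig : (max k l) ^ (8 * (max k l) ^ 2) ≤ Nat.card (POmega F (quadFormOdd 3 F))) :
    Cond (oddForm 3 F) p (ee p k l) 3 := by
  have h2 : (2 : F) ≠ 0 := by
    apply Ring.two_ne_zero
    intro h
    have h1 := FiniteField.even_card_of_char_two h
    rw [Nat.odd_iff] at ho
    omega
  exact cond_of (nondeg_oddForm 3 F h2) (Or.inl rfl) (N := 2 * 3 + 1) (by omega) hk hl hg hpd (card_odd_le ho le_rfl)
    hbig (by omega)

/-- **POmega^-_8(q)** -/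
theorem cond_minus_three {a b : F} (hab : ∀ z₁ z₂ : F, z₁ ^ 2 + a * z₁ * z₂ + b * z₂ ^ 2 = 0 → z₁ = 0 ∧ z₂ = 0)
    (hk : 2 ≤ k) (hl : 2 ≤ l) (hg : ¬ k.Coprime l) (hpd : p ∣ k ∨ p ∣ l)
    (hbig : (max k l) ^ (8 * (max k l) ^ 2) ≤ Nat.card (POmega F (quadFormMinus 3 F a b))) :
    Cond (minusForm 3 F a b) p (ee p k l) 3 :=
  cond_of (nondeg_minusForm 3 F a b hab) (Or.inl rfl) (N := 2 * 3 + 2) (by omega) hk hl hg hpd
    (card_minus_le le_rfl hab) hbig (by omega)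

/-- **POmega^-_10(q)**, `q ≥ 3` -/
theorem cond_minus_four {a b : F} (hab : ∀ z₁ z₂ : F, z₁ ^ 2 + a * z₁ * z₂ + b * z₂ ^ 2 = 0 → z₁ = 0 ∧ z₂ = 0)
    (hk : 2 ≤ k) (hl : 2 ≤ l) (hg : ¬ k.Coprime l) (hpd : p ∣ k ∨ p ∣ l)
    (hbig : (max k l) ^ (8 * (max k l) ^ 2) ≤ Nat.card (POmega F (quadFormMinus 4 F a b)))
    (hq3 : 3 ≤ Nat.card F) : Cond (minusForm 4 F a b) p (ee p k l) 4 :=
  cond_of (nondeg_minusForm 4 F a b hab) (Or.inr rfl) (N := 2 * 4 + 2) (by omega) hk hl hg hpd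
    (card_minus_le (by omega) hab) hbig (fun _ => hq3)

end final

end Cfsg.Agent.H950.War.EB
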