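import Cfsg.Agent.H951.OreU.T6

/-!
# S2453 for `PSU_n(q)`: a frame for `c + rank one` in odd dimension (helper950)
-/

set_option autoImplicit false

namespace Cfsg.Agent.H950.War

open Module Polynomial Cfsg.Agent.H951 Matrix Cfsg.Agent.H98.Ore Cfsg.Agent.H951.OreU
open Cfsg.Agent.LieClassical.HermBasic

variable {F V : Type*} [Field F] [Fintype F] [AddCommGroup V] [Module F V] [FiniteDimensional F V]
  {q : ℕ} {σ : F →+* F} {B : V → V → F}

theorem frame_transv_odd (hB : HS q σ B) {m : ℕ} (hm : 2 ≤ m) (hn : finrank F V = 2 * m + 1) {g : End F V} {c k : F}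
    {e : V} (hc : c ≠ 0) (hk : k ≠ 0) (hee : B e e ≠ 0) (hgv : ∀ v, g v = c • v + (k * B v e) • e) :
    ∃ u φ : Fin m → F, u ≠ 0 ∧ φ ≠ 0 ∧ φ ⬝ᵥ u = 0 ∧
      Cor B g (c • ((1 : Matrix (Fin m) (Fin m) F) + Matrix.vecMulVec u φ)) := by
  obtain ⟨m, rfl⟩ : ∃ k, m = k + 2 := ⟨m - 2, by omega⟩
  let U : Submodule F V := hB.frm.perp (Submodule.span F {e})
  have hU : ∀ v, v ∈ U ↔ B v e = 0 := by
    intro v
    constructor
    · intro h
      exact h e (Submodule.mem_span_singleton_self e)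
    · intro h w hw
      obtain ⟨a, rfl⟩ := Submodule.mem_span_singleton.1 hw
      rw [hB.frm.smul_right, h, mul_zero]
  have hfr := finrank_aniso hB hee hU
  obtain ⟨u, u', hu⟩ := exists_fr (m + 2) (hs_res_aniso hB hee hU) (by omega)
  have hww : ∀ i j, B (u i : V) (u j) = 0 := hu.ww
  have hdual : ∀ i j, B (u i : V) (u' j) = if i = j then 1 else 0 := hu.dual
  have hww' : ∀ i j, B (u' i : V) (u' j) = 0 := hu.ww'
  have hdual' : ∀ i j, B (u' i : V) (u j) = if i = j then 1 else 0 := by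
    intro i j
    rw [symm hB (u j : V) (u' i), hdual]
    by_cases hij : i = j
    · subst hij; simp
    · rw [if_neg hij, if_neg (Ne.symm hij), map_zero]
  have hue : ∀ i, B (u i : V) e = 0 := fun i => (hU _).1 (u i).2
  have hue' : ∀ i, B (u' i : V) e = 0 := fun i => (hU _).1 (u' i).2
  have heu : ∀ i, B e (u i : V) = 0 := fun i => hB.frm.eq_zero_comm.1 (hue i)
  have heu' : ∀ i, B e (u' i : V) = 0 := fun i => hB.frm.eq_zero_comm.1 (hue' i)
  set s := B e e with hs
  have hσs : σ s = s := by rw [hs, ← symm hB]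
  obtain ⟨α, hα⟩ : ∃ α : F, α + σ α = -s := by
    obtain ⟨α, hα⟩ := exists_trace_eq hB.card (c := -s) (by rw [← hB.sig, map_neg, hσs])
    exact ⟨α, by rw [hB.sig]; exact hα⟩
  have h01 : (0 : Fin (m + 2)) ≠ 1 := Fin.zero_ne_one
  let d : Fin (m + 2) → Fin (m + 2) → F := fun a b => if a = b then 1 else 0
  have hσd : ∀ a b, σ (d a b) = d a b := by
    intro a b
    show σ (if a = b then 1 else 0) = if a = b then 1 else 0
    by_cases h : a = b
    · rw [if_pos h, map_one]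
    · rw [if_neg h, map_zero]
  have hdd : ∀ a b, (if a = b then (1 : F) else 0) = d a b := fun a b => rfl
  have key : ∀ i : Fin (m + 2), (i = 0 ∧ d i 0 = 1 ∧ d i 1 = 0 ∧ d 0 i = 1 ∧ d 1 i = 0) ∨
      (i = 1 ∧ d i 0 = 0 ∧ d i 1 = 1 ∧ d 0 i = 0 ∧ d 1 i = 1) ∨
      (d i 0 = 0 ∧ d i 1 = 0 ∧ d 0 i = 0 ∧ d 1 i = 0) := by
    intro i
    by_cases h1 : i = 0
    · left; subst h1; simp [d]
    · by_cases h2 : i = 1
      · right; left; subst h2; simp [d]
      · right; right
        have h3 : ¬ (0 : Fin (m + 2)) = i := fun h => h1 h.symm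
        have h4 : ¬ (1 : Fin (m + 2)) = i := fun h => h2 h.symm
        simp [d, h1, h2, h3, h4]
  have d00 : d 0 0 = 1 := if_pos rfl
  have d11 : d 1 1 = 1 := if_pos rfl
  have d01 : d 0 1 = 0 := if_neg h01
  have d10 : d 1 0 = 0 := if_neg h01.symm
  -- the new frame
  refine ⟨Pi.single 1 (c⁻¹ * k * s ^ 2), Pi.single 0 1, ?_, ?_, ?_,
    fun i => (u i : V) + d i 0 • (α • (u' 0 : V) + e),
    fun i => (u' i : V) + d i 1 • (α • (u 1 : V) + e - s • (u' 0 : V)), ⟨?_, ?_, ?_⟩, ?_⟩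
  · intro h1
    have := congrFun h1 1
    rw [Pi.single_eq_same] at this
    exact mul_ne_zero (mul_ne_zero (inv_ne_zero hc) hk) (pow_ne_zero _ hee) this
  · intro h1
    have := congrFun h1 0
    rw [Pi.single_eq_same] at this
    exact one_ne_zero this
  · rw [single_dotProduct, one_mul, Pi.single_eq_of_ne h01]
  · intro i j
    simp only [hB.frm.add_left, hB.frm.add_right, hB.frm.smul_left, hB.frm.smul_right, hww, hdual, hdual', hww', hue,
      hue', heu, heu', ← hs, hdd, hσd]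
    by_cases h1 : i = 0
    · by_cases h2 : j = 0
      · subst h1; subst h2
        simp only [d, if_true]
        linear_combination hα
      · have h3 : ¬ (0 : Fin (m + 2)) = j := fun h => h2 h.symm
        simp [d, h1, h2, h3]
    · have h3 : ¬ (0 : Fin (m + 2)) = i := fun h => h1 h.symm
      by_cases h2 : j = 0
      · simp [d, h1, h2, h3]
      · simp [d, h1, h2, h3]
  · intro i j
    simp only [hB.frm.add_left, hB.frm.add_right, hB.frm.sub_right, hB.frm.smul_left, hB.frm.smul_right, hww, hdual,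
      hdual', hww', hue, hue', heu, heu', ← hs, hdd, hσd, hσs]
    rcases key i with ⟨rfl, a1, a2, a3, a4⟩ | ⟨rfl, a1, a2, a3, a4⟩ | ⟨a1, a2, a3, a4⟩ <;>
    rcases key j with ⟨rfl, b1, b2, b3, b4⟩ | ⟨rfl, b1, b2, b3, b4⟩ | ⟨b1, b2, b3, b4⟩ <;>
    simp only [d00, d11, d01, d10, a1, a2, a3, a4, b1, b2, b3, b4] <;> ring1
  · intro i j
    simp only [hB.frm.add_left, hB.frm.add_right, hB.frm.sub_left, hB.frm.sub_right, hB.frm.smul_left,
      hB.frm.smul_right, hB.frm.zero_left, hww, hdual, hdual', hww', hue, hue', heu, heu', ← hs, hdd, hσd, hσs]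
    rcases key i with ⟨rfl, a1, a2, a3, a4⟩ | ⟨rfl, a1, a2, a3, a4⟩ | ⟨a1, a2, a3, a4⟩ <;>
    rcases key j with ⟨rfl, b1, b2, b3, b4⟩ | ⟨rfl, b1, b2, b3, b4⟩ | ⟨b1, b2, b3, b4⟩ <;>
    simp only [d00, d11, d01, d10, a1, a2, a3, a4, b1, b2, b3, b4] <;>
    first | (ring1) | linear_combination hα
  · intro i j
    have hji : d j i = d i j := by
      show (if j = i then (1 : F) else 0) = if i = j then 1 else 0
      by_cases h : i = j
      · rw [if_pos h, if_pos h.symm]
      · rw [if_neg h, if_neg (Ne.symm h)]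
    have p1 : (Pi.single 1 (c⁻¹ * k * s ^ 2) : Fin (m + 2) → F) i = c⁻¹ * k * s ^ 2 * d i 1 := by
      rw [Pi.single_apply]
      change (if i = 1 then _ else _) = _ * (if i = 1 then (1 : F) else 0)
      rw [mul_ite, mul_one, mul_zero]
    have p2 : (Pi.single 0 1 : Fin (m + 2) → F) j = d j 0 := by
      rw [Pi.single_apply]
    have hcc : c * (c⁻¹ * k * s ^ 2) = k * s ^ 2 := by field_simp
    have hR : (c • ((1 : Matrix (Fin (m + 2)) (Fin (m + 2)) F) +
        Matrix.vecMulVec (Pi.single 1 (c⁻¹ * k * s ^ 2) : Fin (m + 2) → F) (Pi.single 0 1 : Fin (m + 2) → F)) :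
          Matrix (Fin (m + 2)) (Fin (m + 2)) F) i j =
        c * d i j + k * s ^ 2 * (d i 1 * d j 0) := by
      rw [Matrix.smul_apply, Matrix.add_apply, Matrix.one_apply, Matrix.vecMulVec_apply, p1, p2, smul_eq_mul, ← hcc,
        hdd]
      ring
    rw [hR]
    simp only [hgv, hB.frm.add_left, hB.frm.add_right, hB.frm.sub_right, hB.frm.smul_left, hB.frm.smul_right, hww, hdual,
      hdual', hww', hue, hue', heu, heu', ← hs, hdd, hσd, hσs]
    rcases key i with ⟨rfl, a1, a2, a3, a4⟩ | ⟨rfl, a1, a2, a3, a4⟩ | ⟨a1, a2, a3, a4⟩ <;>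
    rcases key j with ⟨rfl, b1, b2, b3, b4⟩ | ⟨rfl, b1, b2, b3, b4⟩ | ⟨b1, b2, b3, b4⟩ <;>
    simp only [d00, d11, d01, d10, a1, a2, a3, a4, b1, b2, b3, b4, hji] <;> ring1

end Cfsg.Agent.H950.War
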