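import Cfsg.Agent.H98.Ore.Main
import Cfsg.Agent.H950.War.Crit
import Cfsg.Agent.H950.War.FrameOdd

/-!
# S2453 for `PSU_n(q)`, `n ≥ 4`: non-scalar elements are `x ^ e * y ^ e` (helper950)
-/

set_option autoImplicit false
set_option linter.unusedSectionVars false

namespace Cfsg.Agent.H950.War

open Module Polynomial Cfsg.Agent.H951 Matrix Cfsg.Agent.H98.Ore Cfsg.Agent.H951.OreU Cfsg.Agent.H984.Ore
open Cfsg.Agent.LieClassical.HermBasic

variable {F V : Type*} [Field F] [Fintype F] [AddCommGroup V] [Module F V] [FiniteDimensional F V]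
  {q : ℕ} {σ : F →+* F} {B : V → V → F}

/-- a corner `P` of `g` and a matrix `Z` with characteristic polynomial `f` such that `P * Z` and `Z` are conjugate under
a matrix of determinant one -/
def Fit (B : V → V → F) (f : F[X]) (g : V ≃ₗ[F] V) : Prop :=
  ∃ (ι : Type) (_ : Fintype ι) (_ : DecidableEq ι) (P Z h : Matrix ι ι F),
    (finrank F V = 2 * Fintype.card ι ∨ finrank F V = 2 * Fintype.card ι + 1) ∧ Cor B (g : End F V) P ∧
      Z.charpoly = f ∧ h.det = 1 ∧ P * Z * h = h * Z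

theorem eval_ne {m e : ℕ} {f : F[X]} (hf : PW q σ m e f) (hm : 2 ≤ m) (x : F) : f.eval x ≠ 0 := by
  intro hx
  have h1 := Polynomial.degree_eq_one_of_irreducible_of_root hf.irr hx
  have h2 : f.natDegree = 1 := Polynomial.natDegree_eq_of_degree_eq_some h1
  have := hf.deg
  omega

theorem W_of_fit (hB : HS q σ B) {m e : ℕ} (hm : 2 ≤ m) (he : 1 ≤ e)
    (hn : finrank F V = 2 * m ∨ finrank F V = 2 * m + 1) {f : F[X]}
    (hf : PW q σ m e f) {g : V ≃ₗ[F] V} (hg : g ∈ SGr B) (h : Fit B f g) : W B e (q ^ (2 * m) - 1) g := by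
  obtain ⟨ι, _, _, P, Z, h, hcard, hcor, hZ, hh, hPZ⟩ := h
  obtain ⟨Z₀, rfl, hσ, hN⟩ := hf.root Z hZ
  have hZdet : (Z₀ ^ e).det ≠ 0 := by
    rw [Matrix.det_eq_sign_charpoly_coeff, hZ, Polynomial.coeff_zero_eq_eval_zero]
    exact mul_ne_zero (pow_ne_zero _ (neg_ne_zero.2 one_ne_zero)) (eval_ne hf hm 0)
  have hZ₀ : Z₀.det ≠ 0 := by
    intro h0
    apply hZdet
    rw [Matrix.det_pow, h0, zero_pow (by omega)]
  refine criterionW hB hg hcard hcor hPZ hh hZ₀ (fun _ => hσ) hN ?_ ?_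
  · rw [hZ]; exact hf.cop
  · rw [hZ]; exact eval_ne hf hm _

theorem fit_of_good (hB : HS q σ B) {m e : ℕ} (hm : 2 ≤ m)
    (hn : finrank F V = 2 * m ∨ finrank F V = 2 * m + 1) {f : F[X]}
    (hf : PW q σ m e f) {g : V ≃ₗ[F] V} (h : Good B (g : End F V)) : Fit B f g := by
  obtain ⟨ι, hι1, hι2, P, hcard, hcor, hPd, x, p, hp, hpx⟩ := h
  have hm' : Fintype.card ι = m := by omega
  have hq2 := LieClassical.HermBasic.two_le hB.card
  have hF4 : 4 ≤ Nat.card F := by
    rw [Nat.card_eq_fintype_card, hB.card]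
    nlinarith
  obtain ⟨Z, k, hZf, hk, hPZ⟩ := Cfsg.Agent.H864.Ore.gl_comm hF4 P hPd x p hp hpx f hf.irr hf.monic
    (by rw [hf.deg, hm']) (by omega)
  exact ⟨ι, hι1, hι2, P, Z, k, hcard, hcor, hZf, hk, hPZ⟩

theorem fit_rank_one (hB : HS q σ B) {m e : ℕ} (hm : 2 ≤ m)
    (hn : finrank F V = 2 * m ∨ finrank F V = 2 * m + 1) {f : F[X]}
    (hf : PW q σ m e f) {g : V ≃ₗ[F] V} (hgS : g ∈ SGr B)
    {c : F} (hc : finrank F (LinearMap.range ((g : End F V) - c • (1 : End F V))) = 1) : Fit B f g := by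
  obtain ⟨hg, hdet⟩ := mem_SGr.1 hgS
  have hg : Isom B (g : End F V) := hg
  obtain ⟨hcq, e, k, he, hk, hgv⟩ := rank_one_form hB (by omega) hg hc
  have hc0 : c ≠ 0 := by
    rintro rfl
    rw [zero_pow (by omega)] at hcq
    exact zero_ne_one hcq
  have hns : ∀ c' : F, (g : End F V) ≠ c' • (1 : End F V) := by
    intro c' hcc
    rw [hcc] at hc
    have h1 : c' • (1 : End F V) - c • (1 : End F V) = (c' - c) • (1 : End F V) := by rw [sub_smul]
    rw [h1] at hc
    by_cases h2 : c' - c = 0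
    · rw [h2, zero_smul, LinearMap.range_zero, finrank_bot] at hc
      omega
    · have h3 : LinearMap.range ((c' - c) • (1 : End F V)) = ⊤ := by
        rw [LinearMap.range_eq_top]
        intro v
        refine ⟨(c' - c)⁻¹ • v, ?_⟩
        rw [LinearMap.smul_apply, Module.End.one_apply, smul_smul, mul_inv_cancel₀ h2, one_smul]
      rw [h3, finrank_top] at hc
      omega
  obtain ⟨w, hw, hgw⟩ := exists_typeI hB hg hns
  obtain ⟨U, g₁, b, h⟩ := exists_step hB hg hw hgw
  obtain ⟨hU, hfr⟩ := Step.hs hB hg h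
  obtain ⟨rfl, rfl⟩ := step_rank_one hB hgv h
  have hdet' := det_rank_one hB hc0 (by omega) hgv
  rw [hdet] at hdet'
  obtain ⟨m, rfl⟩ : ∃ k, m = k + 1 := ⟨m - 1, by omega⟩
  have hm1 : 1 ≤ m := by omega
  -- the corner `(c ^ m)⁻¹, c, ..., c`
  have hcor : Cor B (g : End F V) (Matrix.fromBlocks (Matrix.of fun (_ _ : Unit) => (c ^ m)⁻¹) 0 0
      (Matrix.diagonal fun _ : Fin m => c)) := by
    have hU' := cor_scalar hU (c := c) (m := m) (by omega)
    rcases hn with hm | hm
    · obtain ⟨i0, hi0, hi⟩ := exists_trace_zero_ne hB.card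
      have hi' : σ i0 = -i0 := by
        rw [hB.sig]
        linear_combination hi
      obtain ⟨R, hR, hcor⟩ := Cfsg.Agent.H24.Ore.cor_step hB hg h hU' i0 hi'
      have hd : (Matrix.fromBlocks (Matrix.of fun (_ _ : Unit) => i0 * B ((g : End F V) w) w) R 0
          (Matrix.diagonal fun _ : Fin m => c)).det = i0 * B ((g : End F V) w) w * c ^ m := by
        rw [det_block, Matrix.det_diagonal, Finset.prod_const, Finset.card_univ, Fintype.card_fin]
      have hd0 : i0 * B ((g : End F V) w) w * c ^ m ≠ 0 := mul_ne_zero (mul_ne_zero hi0 h.ne) (pow_ne_zero _ hc0)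
      have h1 := cor_det hB hg (by
        rw [Fintype.card_sum, Fintype.card_unit, Fintype.card_fin]
        omega) hcor (by rw [hd]; exact hd0)
      rw [hd, hdet, one_mul] at h1
      obtain ⟨R', hR', hcor'⟩ := Cfsg.Agent.H24.Ore.cor_step hB hg h hU'
        (i0 * (i0 * B ((g : End F V) w) w * c ^ m)⁻¹) (by
        rw [map_mul, map_inv₀, ← h1, hi', neg_mul])
      rw [hR' rfl] at hcor'
      have h2 : i0 * (i0 * B ((g : End F V) w) w * c ^ m)⁻¹ * B ((g : End F V) w) w = (c ^ m)⁻¹ := by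
        have h3 := h.ne
        have h4 : c ^ m ≠ 0 := pow_ne_zero _ hc0
        field_simp
      rw [h2] at hcor'
      exact hcor'
    · obtain ⟨R, hR, hcor⟩ := Cfsg.Agent.H24.Ore.cor_step_odd hB hg h (κ := Fin m)
        (by rw [Fintype.card_fin]; omega) hU' (c ^ m)⁻¹
      rw [hR rfl ⟨c, rfl⟩] at hcor
      exact hcor
  have hcm1 : Fintype.card (Unit ⊕ Fin m) = m + 1 := by
    rw [Fintype.card_sum, Fintype.card_unit, Fintype.card_fin, add_comm]
  have hcard : finrank F V = 2 * Fintype.card (Unit ⊕ Fin m) ∨ finrank F V = 2 * Fintype.card (Unit ⊕ Fin m) + 1 := by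
    rw [hcm1]
    exact hn
  by_cases hc1 : c = 1
  · -- `P = 1`
    subst hc1
    have hP1 : Matrix.fromBlocks (Matrix.of fun (_ _ : Unit) => ((1 : F) ^ m)⁻¹) 0 0
        (Matrix.diagonal fun _ : Fin m => (1 : F)) = 1 := by
      rw [one_pow, inv_one, Matrix.diagonal_one, ← Matrix.fromBlocks_one]
      congr 1
    rw [hP1] at hcor
    obtain ⟨Z, hZ⟩ := exists_matrix (ι := Unit ⊕ Fin m) hf.monic (by
      rw [hf.deg, Fintype.card_sum, Fintype.card_unit, Fintype.card_fin]; omega)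
    exact ⟨Unit ⊕ Fin m, inferInstance, inferInstance, 1, Z, 1, hcard, hcor, hZ, Matrix.det_one, by
      rw [one_mul, mul_one]⟩
  by_cases hcm : c ^ (m + 1) = 1
  · obtain ⟨u, φ, hu, hφ, huφ, hcor2⟩ : ∃ u φ : Fin (m + 1) → F, u ≠ 0 ∧ φ ≠ 0 ∧ φ ⬝ᵥ u = 0 ∧
        Cor B (g : End F V) (c • ((1 : Matrix (Fin (m + 1)) (Fin (m + 1)) F) + Matrix.vecMulVec u φ)) := by
      rcases hn with hm | hm
      · -- a multiple of a transvection
        have hee : B e e = 0 := by
          rw [hm] at hdet'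
          have h1 : c ^ (2 * (m + 1)) = 1 := by rw [mul_comm, pow_mul, hcm, one_pow]
          have h2 : c ^ (2 * (m + 1) - 1) * (c + k * B e e) = c ^ (2 * (m + 1)) +
              c ^ (2 * (m + 1) - 1) * k * B e e := by
            conv_rhs => rw [show 2 * (m + 1) = (2 * (m + 1) - 1) + 1 by omega, pow_succ]
            rw [Nat.add_sub_cancel]
            ring
          rw [h2, h1] at hdet'
          have h3 : c ^ (2 * (m + 1) - 1) * k * B e e = 0 := by linear_combination -hdet'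
          exact (mul_eq_zero.1 h3).resolve_left (mul_ne_zero (pow_ne_zero _ hc0) hk)
        exact frame_transv hB (m := m + 1) (by omega) hm hc0 hk he hee hgv
      · have h1 : c ^ (finrank F V - 1) = 1 := by
          rw [hm, Nat.add_sub_cancel, mul_comm, pow_mul, hcm, one_pow]
        rw [h1, one_mul] at hdet'
        refine frame_transv_odd hB (m := m + 1) (by omega) hm hc0 hk ?_ hgv
        intro h2
        rw [h2, mul_zero, add_zero] at hdet'
        exact hc1 hdet'.symm
    obtain ⟨Z, h', hZ, hh, hPZ⟩ := Cfsg.Agent.H874.OreTransv.gl_transv c (by rw [Fintype.card_fin]; exact hcm)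
      u φ hu hφ huφ f hf.irr hf.monic (by rw [hf.deg, Fintype.card_fin]) (by rw [Fintype.card_fin]; omega)
      (hf.scal c hcq hcm hc1)
    exact ⟨Fin (m + 1), inferInstance, inferInstance, _, Z, h', by rw [Fintype.card_fin]; exact hn, hcor2, hZ, hh, hPZ⟩
  · -- `c ^ m * c ≠ 1`: a simple eigenvalue
    refine fit_of_good hB hm (by omega) hf ⟨Unit ⊕ Fin m, inferInstance, inferInstance, _, hcard, hcor, ?_, (c ^ m)⁻¹,
      (Matrix.diagonal fun _ : Fin m => c).charpoly, charpoly_block _ _ _, ?_⟩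
    · rw [det_block, Matrix.det_diagonal, Finset.prod_const, Finset.card_univ, Fintype.card_fin,
        inv_mul_cancel₀ (pow_ne_zero _ hc0)]
    · rw [Matrix.charpoly_diagonal, Finset.prod_const, Polynomial.eval_pow, Polynomial.eval_sub, Polynomial.eval_X,
        Polynomial.eval_C]
      apply pow_ne_zero
      intro h1
      apply hcm
      have h2 : (c ^ m)⁻¹ = c := sub_eq_zero.1 h1
      calc c ^ (m + 1) = c ^ m * c := pow_succ _ _
        _ = c ^ m * (c ^ m)⁻¹ := by rw [h2]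
        _ = 1 := mul_inv_cancel₀ (pow_ne_zero _ hc0)

/-- **non-scalar elements, `n ≥ 4`** -/
theorem W_of_not_scalar (hB : HS q σ B) {m e : ℕ} (hm : 2 ≤ m) (he : 1 ≤ e)
    (hn : finrank F V = 2 * m ∨ finrank F V = 2 * m + 1) {f : F[X]}
    (hf : PW q σ m e f) {g : V ≃ₗ[F] V} (hgS : g ∈ SGr B)
    (hs : ∀ c : F, (g : End F V) ≠ c • (1 : End F V)) : W B e (q ^ (2 * m) - 1) g := by
  obtain ⟨hg, hdet⟩ := mem_SGr.1 hgS
  have hg : Isom B (g : End F V) := hg
  apply W_of_fit hB hm he hn hf hgS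
  have h4 : 4 ≤ finrank F V := by omega
  by_cases h1 : ∃ c : F, finrank F (LinearMap.range ((g : End F V) - c • (1 : End F V))) = 1
  · obtain ⟨c, hc⟩ := h1
    exact fit_rank_one hB hm hn hf hgS hc
  push Not at h1
  have hr : ∀ c : F, 2 ≤ finrank F (LinearMap.range ((g : End F V) - c • (1 : End F V))) := by
    intro c
    by_contra hcon
    have h5 : finrank F (LinearMap.range ((g : End F V) - c • (1 : End F V))) = 0 := by
      have := h1 c
      omega
    have h6 := Submodule.finrank_eq_zero.1 h5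
    rw [LinearMap.range_eq_bot, sub_eq_zero] at h6
    exact hs c h6
  apply fit_of_good hB hm hn hf
  obtain ⟨w, U, g₁, b, hst, h2 | ⟨h2, c, hc1, hc2⟩⟩ := Cfsg.Agent.H954.OreB.exists_good_step hB hg hdet h4 hr
  · rcases Nat.even_or_odd' (finrank F V) with ⟨m, hm | hm⟩
    · exact Cfsg.Agent.H801.Ore.good_even hB hg hdet hm hst h2
    · exact Cfsg.Agent.H984.OreFinal.good_odd hB hg hm hst h2
  · exact good_four hB hg hdet h2 hst hc1 hc2

end Cfsg.Agent.H950.War
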