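import Cfsg.Agent.H144.War.Split

/-!
# S2453, `PSp`: the box `JCorner` (helper950)
-/

set_option autoImplicit false
set_option linter.unusedSectionVars false

noncomputable section

namespace Cfsg.Agent.H950.War.JC

open Module Cfsg.Agent.H144 Cfsg.Agent.H144.War

variable {F V : Type*} [Field F] [AddCommGroup V] [Module F V]

theorem nd_pair {B : LinearMap.BilinForm F V} (hB : Alt B) {v w : V} (h : B v w = 1) :
    Nd B (Submodule.span F {v, w}) := by
  intro x hx h0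
  obtain ⟨a, b, rfl⟩ := Submodule.mem_span_pair.1 hx
  have h1 := h0 v (Submodule.subset_span (by simp))
  have h2 := h0 w (Submodule.subset_span (by simp))
  simp only [map_add, map_smul, LinearMap.add_apply, LinearMap.smul_apply, smul_eq_mul, hB v, hB w, h,
    hB.neg w v] at h1 h2
  have ha : a = 0 := by linear_combination h2
  have hb : b = 0 := by linear_combination -h1
  rw [ha, hb, zero_smul, zero_smul, add_zero]

theorem exists_pair {B : LinearMap.BilinForm F V} {R : Submodule F V} (hR : Nd B R) (h : R ≠ ⊥) :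
    ∃ v ∈ R, ∃ w ∈ R, B v w = 1 := by
  obtain ⟨v, hv, hv0⟩ := Submodule.exists_mem_ne_zero_of_ne_bot h
  by_contra hcon
  push Not at hcon
  apply hv0
  apply hR v hv
  intro w hw
  by_contra hne
  apply hcon v hv ((B v w)⁻¹ • w) (R.smul_mem _ hw)
  rw [map_smul, smul_eq_mul, inv_mul_cancel₀ hne]

theorem orth_span_pair {B : LinearMap.BilinForm F V} (hB : Alt B) {v w : V} (h : B v w = 0) :
    Orth B (Submodule.span F {v, w}) (Submodule.span F {v, w}) := by
  intro x hx y hy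
  obtain ⟨a, b, rfl⟩ := Submodule.mem_span_pair.1 hx
  obtain ⟨c, d, rfl⟩ := Submodule.mem_span_pair.1 hy
  simp only [map_add, map_smul, LinearMap.add_apply, LinearMap.smul_apply, smul_eq_mul, hB v, hB w, h,
    hB.neg w v, neg_zero, mul_zero, add_zero]

theorem orth_sup_self {B : LinearMap.BilinForm F V} (hB : Alt B) {P Q : Submodule F V} (hP : Orth B P P)
    (hQ : Orth B Q Q) (hPQ : Orth B P Q) : Orth B (P ⊔ Q) (P ⊔ Q) := by
  intro x hx y hy
  obtain ⟨a, ha, b, hb, rfl⟩ := Submodule.mem_sup.1 hx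
  obtain ⟨c, hc, d, hd, rfl⟩ := Submodule.mem_sup.1 hy
  simp only [map_add, LinearMap.add_apply, hP a ha c hc, hQ b hb d hd, hPQ a ha d hd, hB.neg b c, hPQ c hc b hb,
    neg_zero, add_zero]

variable [FiniteDimensional F V]

/-- Lagrangian decompositions over any field -/
theorem exists_lag' {B : LinearMap.BilinForm F V} (hB : Alt B) (n : ℕ) : ∀ R : Submodule F V, Nd B R →
    finrank F R = n → ∃ P Q : Submodule F V, Orth B P P ∧ Orth B Q Q ∧ P ⊔ Q = R := by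
  induction n using Nat.strong_induction_on with
  | _ n ih =>
  intro R hR hn
  by_cases h0 : R = ⊥
  · exact ⟨⊥, ⊥, orth_bot B _, orth_bot B _, by rw [h0, bot_sup_eq]⟩
  obtain ⟨v, hv, w, hw, hvw⟩ := exists_pair hR h0
  obtain ⟨T, hT⟩ : ∃ T, T = Submodule.span F {v, w} := ⟨_, rfl⟩
  have hTR : T ≤ R := by
    rw [hT, Submodule.span_le]
    rintro x (rfl | rfl)
    · exact hv
    · exact hw
  have hTN : Nd B T := hT ▸ nd_pair hB hvw
  obtain ⟨R2, h2R, ho, hs, hN, hf, -⟩ := split_off hB hTR hTN hR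
  have hvT : v ∈ T := hT ▸ Submodule.subset_span (by simp)
  have hwT : w ∈ T := hT ▸ Submodule.subset_span (by simp)
  have hpos : 0 < finrank F T := by
    have hne : T ≠ ⊥ := by
      rintro rfl
      rw [(Submodule.mem_bot F).1 hvT, map_zero, LinearMap.zero_apply] at hvw
      exact zero_ne_one hvw
    have := Submodule.nontrivial_iff_ne_bot.2 hne
    exact finrank_pos
  obtain ⟨P2, Q2, hP2, hQ2, hPQ⟩ := ih (finrank F R2) (by omega) R2 hN rfl
  have hP2R : P2 ≤ R2 := hPQ ▸ le_sup_left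
  have hQ2R : Q2 ≤ R2 := hPQ ▸ le_sup_right
  have one : ∀ x : V, Orth B (Submodule.span F {x}) (Submodule.span F {x}) := by
    intro x a ha b hb
    obtain ⟨c, rfl⟩ := Submodule.mem_span_singleton.1 ha
    obtain ⟨d, rfl⟩ := Submodule.mem_span_singleton.1 hb
    simp only [map_smul, LinearMap.smul_apply, hB x, smul_zero]
  have sub1 : ∀ x ∈ T, ∀ Z ≤ R2, Orth B (Submodule.span F {x}) Z := by
    intro x hx Z hZ a ha b hb
    obtain ⟨c, rfl⟩ := Submodule.mem_span_singleton.1 ha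
    exact ho _ (T.smul_mem c hx) b (hZ hb)
  refine ⟨Submodule.span F {v} ⊔ P2, Submodule.span F {w} ⊔ Q2, orth_sup_self hB (one v) hP2 (sub1 v hvT P2 hP2R),
    orth_sup_self hB (one w) hQ2 (sub1 w hwT Q2 hQ2R), ?_⟩
  rw [← hs, hT, ← hPQ, Submodule.span_insert]
  exact sup_sup_sup_comm _ _ _ _

/-- **box J1** -/
theorem jCorner : JCorner := by
  intro F V _ _ _ _ hF2 B hB hBN g hg R' R₁ s hs hR' hR₁ hort hsup hg1 hgm
  have hN' : Nd B R' := by
    intro v hv h0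
    apply hBN
    intro w
    have hw : w ∈ R' ⊔ R₁ := by rw [hsup]; trivial
    obtain ⟨a, ha, b, hb, rfl⟩ := Submodule.mem_sup.1 hw
    rw [map_add, h0 a ha, hort v hv b hb, add_zero]
  have hN₁ : Nd B R₁ := by
    intro v hv h0
    apply hBN
    intro w
    have hw : w ∈ R' ⊔ R₁ := by rw [hsup]; trivial
    obtain ⟨a, ha, b, hb, rfl⟩ := Submodule.mem_sup.1 hw
    rw [map_add, h0 b hb, hB.neg v a, hort a ha v hv, neg_zero, add_zero]
  obtain ⟨e₁, he₁, f₁, hf₁, h₁⟩ := exists_pair hN' (by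
    rintro rfl
    rw [finrank_bot] at hR'
    omega)
  obtain ⟨e₂, he₂, f₂, hf₂, h₂⟩ := exists_pair hN₁ (by
    rintro rfl
    rw [finrank_bot] at hR₁
    omega)
  obtain ⟨T, hT⟩ : ∃ T, T = Submodule.span F {e₁, f₁} := ⟨_, rfl⟩
  have hTR : T ≤ R' := by
    rw [hT, Submodule.span_le]
    rintro x (rfl | rfl)
    · exact he₁
    · exact hf₁
  have he₁T : e₁ ∈ T := hT ▸ Submodule.subset_span (by simp)
  have hf₁T : f₁ ∈ T := hT ▸ Submodule.subset_span (by simp)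
  obtain ⟨R2, h2R, ho, hs2, hN, hf, -⟩ := split_off hB hTR (hT ▸ nd_pair hB h₁) hN'
  obtain ⟨U, U', hU, hU', hUU⟩ := exists_lag' hB _ R2 hN rfl
  have hUR : U ≤ R2 := hUU ▸ le_sup_left
  have hU'R : U' ≤ R2 := hUU ▸ le_sup_right
  have hfT : finrank F T = 2 := by
    have hT2 := finrank_lag hB (R := T) (hT ▸ nd_pair hB h₁) (P := Submodule.span F {e₁}) (Q := Submodule.span F {f₁})
      (by
        intro a ha b hb
        obtain ⟨c, rfl⟩ := Submodule.mem_span_singleton.1 ha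
        obtain ⟨d, rfl⟩ := Submodule.mem_span_singleton.1 hb
        simp only [map_smul, LinearMap.smul_apply, hB e₁, smul_zero]) (by
        intro a ha b hb
        obtain ⟨c, rfl⟩ := Submodule.mem_span_singleton.1 ha
        obtain ⟨d, rfl⟩ := Submodule.mem_span_singleton.1 hb
        simp only [map_smul, LinearMap.smul_apply, hB f₁, smul_zero]) (by rw [hT, Submodule.span_insert])
    rw [hT2, finrank_span_singleton]
    rintro rfl
    rw [map_zero, LinearMap.zero_apply] at h₁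
    exact zero_ne_one h₁
  have hfU := finrank_lag hB hN hU hU' hUU
  -- orthogonality relations
  have oR : ∀ x ∈ R', ∀ y ∈ R₁, B x y = 0 := hort
  have oR' : ∀ x ∈ R', ∀ y ∈ R₁, B y x = 0 := fun x hx y hy => hB.zero (hort x hx y hy)
  have oT : ∀ x ∈ T, ∀ y ∈ R2, B x y = 0 := ho
  have z1 : B e₁ e₂ = 0 := oR _ he₁ _ he₂
  have z2 : B e₁ f₂ = 0 := oR _ he₁ _ hf₂
  have z3 : B f₁ e₂ = 0 := oR _ hf₁ _ he₂
  have z4 : B f₁ f₂ = 0 := oR _ hf₁ _ hf₂
  have z1' : B e₂ e₁ = 0 := oR' _ he₁ _ he₂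
  have z2' : B f₂ e₁ = 0 := oR' _ he₁ _ hf₂
  have z3' : B e₂ f₁ = 0 := oR' _ hf₁ _ he₂
  have z4' : B f₂ f₁ = 0 := oR' _ hf₁ _ hf₂
  have w1 : B f₁ e₁ = -1 := by rw [hB.neg, h₁]
  have w2 : B f₂ e₂ = -1 := by rw [hB.neg, h₂]
  obtain ⟨p₁, hp₁⟩ : ∃ p, p = e₁ + e₂ := ⟨_, rfl⟩
  obtain ⟨p₂, hp₂⟩ : ∃ p, p = f₁ - f₂ := ⟨_, rfl⟩
  obtain ⟨q₁, hq₁⟩ : ∃ p, p = e₁ - e₂ - f₁ + f₂ := ⟨_, rfl⟩
  obtain ⟨q₂, hq₂⟩ : ∃ p, p = e₁ + e₂ + f₁ + f₂ := ⟨_, rfl⟩
  have hpp : B p₁ p₂ = 0 := by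
    rw [hp₁, hp₂]
    simp only [map_add, map_sub, LinearMap.add_apply, z2, z3', h₁, h₂]
    ring
  have hqq : B q₁ q₂ = 0 := by
    rw [hq₁, hq₂]
    simp only [map_add, map_sub, LinearMap.add_apply, LinearMap.sub_apply, z1, z2, z3, z4, z1', z2', z3', z4', h₁, h₂,
      w1, w2, hB e₁, hB e₂, hB f₁, hB f₂]
    ring
  -- vectors of `T + R₁` are orthogonal to `R2`
  have key : ∀ Z ≤ R2, ∀ x y : V, x ∈ T ⊔ R₁ → y ∈ T ⊔ R₁ → Orth B Z (Submodule.span F {x, y}) := by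
    intro Z hZ x y hx hy a ha b hb
    have hb' : b ∈ T ⊔ R₁ := by
      refine (Submodule.span_le.2 ?_) hb
      rintro t (rfl | rfl)
      · exact hx
      · exact hy
    obtain ⟨c, hc, d, hd, rfl⟩ := Submodule.mem_sup.1 hb'
    rw [map_add, hB.neg a c, oT c hc a (hZ ha), oR a (h2R (hZ ha)) d hd, neg_zero, add_zero]
  have me₁ : e₁ ∈ T ⊔ R₁ := Submodule.mem_sup_left he₁T
  have mf₁ : f₁ ∈ T ⊔ R₁ := Submodule.mem_sup_left hf₁T
  have me₂ : e₂ ∈ T ⊔ R₁ := Submodule.mem_sup_right he₂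
  have mf₂ : f₂ ∈ T ⊔ R₁ := Submodule.mem_sup_right hf₂
  have mp₁ : p₁ ∈ T ⊔ R₁ := hp₁ ▸ add_mem me₁ me₂
  have mp₂ : p₂ ∈ T ⊔ R₁ := hp₂ ▸ sub_mem mf₁ mf₂
  have mq₁ : q₁ ∈ T ⊔ R₁ := hq₁ ▸ add_mem (sub_mem (sub_mem me₁ me₂) mf₁) mf₂
  have mq₂ : q₂ ∈ T ⊔ R₁ := hq₂ ▸ add_mem (add_mem (add_mem me₁ me₂) mf₁) mf₂
  have hspan₁ : Submodule.span F {p₁, p₂} ≤ U ⊔ Submodule.span F {p₁, p₂} := le_sup_right
  have hspan₂ : Submodule.span F {q₁, q₂} ≤ U' ⊔ Submodule.span F {q₁, q₂} := le_sup_right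
  have ip₁ : p₁ ∈ U ⊔ Submodule.span F {p₁, p₂} := hspan₁ (Submodule.subset_span (by simp))
  have ip₂ : p₂ ∈ U ⊔ Submodule.span F {p₁, p₂} := hspan₁ (Submodule.subset_span (by simp))
  have iq₁ : q₁ ∈ U' ⊔ Submodule.span F {q₁, q₂} := hspan₂ (Submodule.subset_span (by simp))
  have iq₂ : q₂ ∈ U' ⊔ Submodule.span F {q₁, q₂} := hspan₂ (Submodule.subset_span (by simp))
  refine ⟨U ⊔ Submodule.span F {p₁, p₂}, U' ⊔ Submodule.span F {q₁, q₂}, U, p₁, ip₁, p₂, ip₂,
    orth_sup_self hB hU (orth_span_pair hB hpp) (key U hUR p₁ p₂ mp₁ mp₂),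
    orth_sup_self hB hU' (orth_span_pair hB hqq) (key U' hU'R q₁ q₂ mq₁ mq₂), ?_, le_sup_left, ?_, rfl, ?_, ?_, ?_⟩
  · rw [eq_top_iff, ← hsup, ← hs2, ← hUU]
    obtain ⟨W, hW⟩ : ∃ W, W = U ⊔ Submodule.span F {p₁, p₂} ⊔ (U' ⊔ Submodule.span F {q₁, q₂}) := ⟨_, rfl⟩
    rw [← hW]
    have jU : U ≤ W := hW ▸ le_sup_of_le_left le_sup_left
    have jU' : U' ≤ W := hW ▸ le_sup_of_le_right le_sup_left
    have jp₁ : p₁ ∈ W := hW ▸ Submodule.mem_sup_left ip₁
    have jp₂ : p₂ ∈ W := hW ▸ Submodule.mem_sup_left ip₂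
    have jq₁ : q₁ ∈ W := hW ▸ Submodule.mem_sup_right iq₁
    have jq₂ : q₂ ∈ W := hW ▸ Submodule.mem_sup_right iq₂
    have half : ∀ x : V, (2 : F) • x ∈ W → x ∈ W := by
      intro x hx
      have := W.smul_mem (2 : F)⁻¹ hx
      rwa [smul_smul, inv_mul_cancel₀ hF2, one_smul] at this
    have je₁ : e₁ ∈ W := by
      apply half
      have : (2 : F) • e₁ = p₁ + (q₁ + p₂) := by rw [hp₁, hq₁, hp₂]; module
      rw [this]
      exact add_mem jp₁ (add_mem jq₁ jp₂)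
    have je₂ : e₂ ∈ W := by
      have : e₂ = p₁ - e₁ := by rw [hp₁]; module
      rw [this]
      exact sub_mem jp₁ je₁
    have jf₁ : f₁ ∈ W := by
      apply half
      have : (2 : F) • f₁ = (q₂ - p₁) + p₂ := by rw [hp₁, hq₂, hp₂]; module
      rw [this]
      exact add_mem (sub_mem jq₂ jp₁) jp₂
    have jf₂ : f₂ ∈ W := by
      have : f₂ = f₁ - p₂ := by rw [hp₂]; module
      rw [this]
      exact sub_mem jf₁ jp₂
    -- `R₁ = ⟨e₂, f₂⟩`
    have hR₁span : Submodule.span F {e₂, f₂} = R₁ := by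
      apply Submodule.eq_of_le_of_finrank_eq
      · rw [Submodule.span_le]
        rintro x (rfl | rfl)
        · exact he₂
        · exact hf₂
      · rw [hR₁]
        have hT2 := finrank_lag hB (R := Submodule.span F {e₂, f₂}) (nd_pair hB h₂) (P := Submodule.span F {e₂})
          (Q := Submodule.span F {f₂})
          (by
            intro a ha b hb
            obtain ⟨c, rfl⟩ := Submodule.mem_span_singleton.1 ha
            obtain ⟨d, rfl⟩ := Submodule.mem_span_singleton.1 hb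
            simp only [map_smul, LinearMap.smul_apply, hB e₂, smul_zero]) (by
            intro a ha b hb
            obtain ⟨c, rfl⟩ := Submodule.mem_span_singleton.1 ha
            obtain ⟨d, rfl⟩ := Submodule.mem_span_singleton.1 hb
            simp only [map_smul, LinearMap.smul_apply, hB f₂, smul_zero]) (by rw [Submodule.span_insert])
        rw [hT2, finrank_span_singleton]
        rintro rfl
        rw [map_zero, LinearMap.zero_apply] at h₂
        exact zero_ne_one h₂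
    rw [← hR₁span, hT]
    refine sup_le (sup_le ?_ (sup_le jU jU')) ?_
    · rw [Submodule.span_le]
      rintro x (rfl | rfl)
      · exact je₁
      · exact jf₁
    · rw [Submodule.span_le]
      rintro x (rfl | rfl)
      · exact je₂
      · exact jf₂
  · omega
  · intro v hv
    rw [hg1 v (h2R (hUR hv)), sub_self]
    exact Submodule.zero_mem _
  · have : g p₁ - p₂ = q₁ := by
      rw [hp₁, map_add, hg1 e₁ he₁, hgm e₂ he₂, hp₂, hq₁]
      abel
    rw [this]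
    exact iq₁
  · have : g p₂ + p₁ = q₂ := by
      rw [hp₂, map_sub, hg1 f₁ hf₁, hgm f₂ hf₂, hp₁, hq₂]
      abel
    rw [this]
    exact iq₂

end Cfsg.Agent.H950.War.JC
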