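import Cfsg.Agent.H950.War.Crit
import Cfsg.Agent.H950.UHerm
import Cfsg.Agent.S0278
import Cfsg.Agent.H130.War.Base
import Cfsg.Agent.ClassicalGeometry.PSUAutBasic

/-!
# S2453 for `PSU_n(q)`: order bound, passage to `PSU` (helper950)
-/

set_option autoImplicit false
set_option linter.unusedSectionVars false

namespace Cfsg.Agent.H950.War

open Cfsg Module Polynomial Cfsg.Agent.H951 Matrix Cfsg.Agent.H98.Ore
open Cfsg.Agent.ClassicalGeometry.PSUAutBasic (pr pr_surjective pr_eq_one_iff)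

universe u

variable {F : Type u} [Field F] [Fintype F] {q : ℕ}

/-! ### the order -/

/-- `q ^ (i+1) - (-1) ^ (i+1)` -/
def ph (q i : ℕ) : ℕ := if Even i then q ^ (i + 1) + 1 else q ^ (i + 1) - 1

theorem prod_odd {q : ℕ} (hq : 2 ≤ q) (k : ℕ) :
    ∏ i ∈ Finset.range (2 * k + 1), ph q i ≤ (q + 1) * q ^ (2 * k ^ 2 + 3 * k) := by
  induction k with
  | zero => simp [ph]
  | succ k ih =>
    rw [show 2 * (k + 1) + 1 = 2 * k + 1 + 1 + 1 by ring, Finset.prod_range_succ, Finset.prod_range_succ]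
    have h1 : ph q (2 * k + 1) = q ^ (2 * k + 2) - 1 := by
      unfold ph
      rw [if_neg (by rw [Nat.not_even_iff_odd]; exact ⟨k, rfl⟩)]
    have h2 : ph q (2 * k + 1 + 1) = q ^ (2 * k + 3) + 1 := by
      unfold ph
      rw [if_pos ⟨k + 1, by ring⟩]
    have h3 : (q ^ (2 * k + 2) - 1) * (q ^ (2 * k + 3) + 1) ≤ q ^ (4 * k + 5) := by
      have e1 : 1 ≤ q ^ (2 * k + 2) := Nat.one_le_pow _ _ (by omega)
      obtain ⟨a, ha⟩ : ∃ a, q ^ (2 * k + 2) = a + 1 := ⟨q ^ (2 * k + 2) - 1, by omega⟩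
      have e2 : q ^ (2 * k + 3) = (a + 1) * q := by rw [← ha, ← pow_succ]
      have e3 : q ^ (4 * k + 5) = (a + 1) * ((a + 1) * q) := by
        rw [← e2, ← ha, ← pow_add]; congr 1; ring
      rw [ha, e2, e3, Nat.add_sub_cancel]
      nlinarith
    calc (∏ i ∈ Finset.range (2 * k + 1), ph q i) * ph q (2 * k + 1) * ph q (2 * k + 1 + 1)
        ≤ (q + 1) * q ^ (2 * k ^ 2 + 3 * k) * q ^ (4 * k + 5) := by
          rw [mul_assoc, h1, h2]
          exact Nat.mul_le_mul ih h3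
      _ = (q + 1) * q ^ (2 * (k + 1) ^ 2 + 3 * (k + 1)) := by
          rw [mul_assoc, ← pow_add]; congr 2; ring

theorem prod_le {q : ℕ} (hq : 2 ≤ q) {n : ℕ} (hn : 1 ≤ n) :
    ∏ i ∈ Finset.range n, ph q i ≤ (q + 1) * q ^ (n * (n + 1) / 2 - 1) := by
  rcases Nat.even_or_odd' n with ⟨k, rfl | rfl⟩
  · obtain ⟨k, rfl⟩ : ∃ j, k = j + 1 := ⟨k - 1, by omega⟩
    rw [show 2 * (k + 1) = 2 * k + 1 + 1 by ring, Finset.prod_range_succ]
    have h1 : ph q (2 * k + 1) ≤ q ^ (2 * k + 2) := by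
      unfold ph
      rw [if_neg (by rw [Nat.not_even_iff_odd]; exact ⟨k, rfl⟩)]
      exact Nat.sub_le _ _
    refine (Nat.mul_le_mul (prod_odd hq k) h1).trans ?_
    have e : (2 * k + 1 + 1) * (2 * k + 1 + 1 + 1) = (2 * k ^ 2 + 3 * k + (2 * k + 2) + 1) * 2 := by ring
    rw [e, Nat.mul_div_cancel _ (by norm_num), Nat.add_sub_cancel, mul_assoc, ← pow_add]
  · refine (prod_odd hq k).trans ?_
    have e : (2 * k + 1) * (2 * k + 1 + 1) = (2 * k ^ 2 + 3 * k + 1) * 2 := by ring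
    rw [e, Nat.mul_div_cancel _ (by norm_num), Nat.add_sub_cancel]

theorem card_SU_le (hF : Fintype.card F = q ^ 2) {n : ℕ} (hn : 1 ≤ n) : Nat.card (SU n F q) ≤ q ^ (n ^ 2) := by
  have hq := LieClassical.HermBasic.two_le hF
  have h1 := Cfsg.Agent.S0278.result hF n hn
  have h2 : (q + 1) * Nat.card (SU n F q) ≤ (q + 1) * q ^ (n ^ 2) := by
    rw [h1]
    have h3 : ∏ i ∈ Finset.range n, (if Even i then q ^ (i + 1) + 1 else q ^ (i + 1) - 1) ≤
        (q + 1) * q ^ (n * (n + 1) / 2 - 1) := prod_le hq hn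
    refine (Nat.mul_le_mul_left _ h3).trans ?_
    rw [mul_left_comm, ← pow_add]
    refine Nat.mul_le_mul_left _ (Nat.pow_le_pow_right (by omega) ?_)
    have e1 : n * (n - 1) / 2 + n * (n + 1) / 2 = n ^ 2 := by
      obtain ⟨m, rfl⟩ : ∃ m, n = m + 1 := ⟨n - 1, by omega⟩
      rw [Nat.add_sub_cancel]
      have e : (m + 1) * (m + 1 + 1) = (m + 1) * m + (m + 1) * 2 := by ring
      rw [e, Nat.add_mul_div_right _ _ (by norm_num)]
      have e2 : 2 ∣ (m + 1) * m := by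
        rw [mul_comm]
        exact (Nat.even_mul_succ_self m).two_dvd
      obtain ⟨k, hk⟩ := e2
      rw [hk, Nat.mul_div_cancel_left _ (by norm_num)]
      have e3 : (m + 1) ^ 2 = (m + 1) * m + (m + 1) := by ring
      rw [e3, hk]; ring
    omega
  exact Nat.le_of_mul_le_mul_left h2 (by omega)

theorem card_PSU_le (hF : Fintype.card F = q ^ 2) {n : ℕ} (hn : 1 ≤ n) : Nat.card (PSU n F q) ≤ q ^ (n ^ 2) :=
  (Nat.card_le_card_of_surjective _ (pr_surjective (n := n) (F := F) (q := q))).trans (card_SU_le hF hn)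

/-! ### passage to `PSU` -/

theorem hs_herm (hF : Fintype.card F = q ^ 2) (n : ℕ) : HS q (Cfsg.Agent.H950.cj hF) (hermForm n F q) :=
  ⟨hF, Cfsg.Agent.H950.cj_apply hF, Cfsg.Agent.H950.frm_herm hF n,
    fun _ hu => Cfsg.Agent.LieClassical.HermBasic.herm_nondeg hF hu⟩

/-- `SU_n(q)` acting on the space -/
def psi (n : ℕ) (F : Type u) [Field F] [Fintype F] (q : ℕ) : SU n F q →* ((Fin n → F) ≃ₗ[F] (Fin n → F)) :=
  (Matrix.SpecialLinearGroup.toLin' (n := Fin n) (R := F)).comp (SU n F q).subtype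

theorem psi_injective (n : ℕ) : Function.Injective (psi n F q) := by
  intro a b h
  exact Subtype.ext (Matrix.SpecialLinearGroup.toLin'_injective h)

theorem psi_mem {n : ℕ} (g : SU n F q) : psi n F q g ∈ SGr (hermForm n F q) := by
  rw [mem_SGr]
  constructor
  · intro u v
    exact Cfsg.Agent.H950.isom_of_SU g.2 u v
  · show LinearMap.det (Matrix.toLin' ((g : Matrix.SpecialLinearGroup (Fin n) F) : Matrix (Fin n) (Fin n) F)) = 1
    rw [LinearMap.det_toLin']
    exact g.1.2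

theorem exists_psi {n : ℕ} {x : (Fin n → F) ≃ₗ[F] (Fin n → F)} (hx : x ∈ SGr (hermForm n F q)) :
    ∃ g : SU n F q, psi n F q g = x := by
  obtain ⟨h1, h2⟩ := mem_SGr.1 hx
  let y₀ : Matrix.SpecialLinearGroup (Fin n) F := ⟨LinearMap.toMatrix' (x : End F (Fin n → F)), by
    rw [LinearMap.det_toMatrix', h2]⟩
  have h3 : Matrix.toLin' (y₀ : Matrix (Fin n) (Fin n) F) = (x : End F (Fin n → F)) := Matrix.toLin'_toMatrix' _
  refine ⟨⟨y₀, Cfsg.Agent.H950.mem_SU_of_isom (by rw [h3]; exact h1)⟩, ?_⟩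
  apply LinearEquiv.toLinearMap_injective
  exact h3

theorem mem_center_of_scalar {n : ℕ} {g : SU n F q} {c : F}
    (h : ((psi n F q g : (Fin n → F) ≃ₗ[F] (Fin n → F)) : End F (Fin n → F)) = c • (1 : End F (Fin n → F))) :
    g ∈ Subgroup.center (SU n F q) := by
  rw [Subgroup.mem_center_iff]
  intro k
  apply psi_injective n
  rw [map_mul, map_mul]
  apply LinearEquiv.ext
  intro v
  rw [LinearEquiv.mul_apply, LinearEquiv.mul_apply]
  have h1 : ∀ v, psi n F q g v = c • v := fun v => by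
    have := congrFun (congrArg DFunLike.coe h) v
    exact this
  rw [h1, h1, map_smul]

open Cfsg.Agent.H130.War in
theorem ss_of_W {n p e N : ℕ} (hN : N.Coprime p)
    (h : ∀ g : (Fin n → F) ≃ₗ[F] (Fin n → F), g ∈ SGr (hermForm n F q) →
      (∀ c : F, (g : End F (Fin n → F)) ≠ c • (1 : End F (Fin n → F))) → W (hermForm n F q) e N g) :
    SS p e (PSU n F q) := by
  refine SS.of_lift (f := pr n F q) fun t => ?_
  obtain ⟨g, rfl⟩ := pr_surjective t
  by_cases hs : ∀ c : F, ((psi n F q g : (Fin n → F) ≃ₗ[F] (Fin n → F)) : End F (Fin n → F)) ≠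
      c • (1 : End F (Fin n → F))
  · obtain ⟨x, hx, y, hy, hxy, hxN, hyN⟩ := h _ (psi_mem g) hs
    obtain ⟨a, rfl⟩ := exists_psi hx
    obtain ⟨b, rfl⟩ := exists_psi hy
    have hinj := psi_injective (F := F) (q := q) n
    refine ⟨g, rfl, a, b, ?_, ?_, ?_⟩
    · apply hinj
      rw [hxy, map_mul, map_pow, map_pow]
    · apply Nat.Coprime.coprime_dvd_left _ hN
      apply orderOf_dvd_of_pow_eq_one
      apply hinj
      rw [map_pow, hxN, map_one]
    · apply Nat.Coprime.coprime_dvd_left _ hN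
      apply orderOf_dvd_of_pow_eq_one
      apply hinj
      rw [map_pow, hyN, map_one]
  · push Not at hs
    obtain ⟨c, hc⟩ := hs
    refine ⟨1, ?_, 1, 1, ?_, ?_, ?_⟩
    · rw [map_one]
      exact (pr_eq_one_iff.2 (mem_center_of_scalar hc)).symm
    · rw [one_pow, one_mul]
    · rw [orderOf_one]; exact Nat.coprime_one_left p
    · rw [orderOf_one]; exact Nat.coprime_one_left p

/-- `q` is divisible by the characteristic -/
theorem dvd_q (hF : Fintype.card F = q ^ 2) {p : ℕ} (hp : p.Prime) [CharP F p] : p ∣ q := by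
  have : Fact p.Prime := ⟨hp⟩
  obtain ⟨a, -, ha⟩ := FiniteField.card F p
  rw [hF] at ha
  have h1 : p ∣ q ^ 2 := by rw [ha]; exact dvd_pow_self p a.2.ne'
  exact hp.dvd_of_dvd_pow h1

theorem coprime_N (hF : Fintype.card F = q ^ 2) {p : ℕ} (hp : p.Prime) [CharP F p] {j : ℕ} (hj : 1 ≤ j) :
    (q ^ j - 1).Coprime p := by
  have h1 := dvd_q (p := p) hF hp
  have hq := LieClassical.HermBasic.two_le hF
  have h2 : 1 ≤ q ^ j := Nat.one_le_pow _ _ (by omega)
  rw [Nat.coprime_comm, Nat.Prime.coprime_iff_not_dvd hp]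
  intro h3
  have h4 : p ∣ q ^ j := dvd_pow h1 (by omega)
  have h5 : p ∣ 1 := by
    have := Nat.dvd_sub h4 h3
    rwa [Nat.sub_sub_self h2] at this
  exact hp.one_lt.ne' (Nat.dvd_one.1 h5)

end Cfsg.Agent.H950.War
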