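import Cfsg.Agent.H950.War.Fit
import Cfsg.Agent.H950.War.Pass
import Cfsg.Agent.H43.W53.Cls
import Cfsg.Agent.H43.W53.Num

/-!
# S2453: the row `PSU_n(q)`, `p ∣ k * l` (helper950)
-/

set_option autoImplicit false

namespace Cfsg.Agent.H950.War

open Cfsg Module Polynomial Cfsg.Agent.H951 Matrix Cfsg.Agent.H98.Ore Cfsg.Agent.H130.War

universe u

variable {F : Type u} [Field F] [Fintype F] {q : ℕ}

/-- `PSU_n(q)`, `n ≥ 4` : every element is `x ^ e * y ^ e` with `x`, `y` of order prime to `p` -/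
theorem ss_psu (hF : Fintype.card F = q ^ 2) {n p e : ℕ} (hn : 4 ≤ n) (hp : p.Prime) [CharP F p] (he : 1 ≤ e)
    (hb : 2 * (e * (q + 1)) < q ^ (n / 2)) : SS p e (PSU n F q) := by
  have hB := hs_herm hF n
  obtain ⟨f, hf⟩ := Cfsg.Agent.H43.W53.exists_pw hF (Cfsg.Agent.H950.cj hF) (Cfsg.Agent.H950.cj_apply hF)
    (m := n / 2) (e := e) (by omega) he hb
  have hfr : finrank F (Fin n → F) = n := Module.finrank_fin_fun F
  exact ss_of_W (coprime_N hF hp (j := 2 * (n / 2)) (by omega)) fun g hg hs =>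
    W_of_not_scalar hB (by omega) he (by rw [hfr]; omega) hf hg hs

/-- the row, `n ≥ 4` -/
theorem kl_psu_four (hF : Fintype.card F = q ^ 2) {n p k l : ℕ} (hn : 4 ≤ n) (hp : p.Prime) [CharP F p]
    (hk : 2 ≤ k) (hl : 2 ≤ l) (hg : ¬ k.Coprime l) (hd : p ∣ k ∨ p ∣ l)
    (hbig : (max k l) ^ (8 * (max k l) ^ 2) ≤ Nat.card (PSU n F q)) : Cfsg.Agent.H134.War.KL (PSU n F q) k l := by
  have hq := LieClassical.HermBasic.two_le hF
  have hM : 2 ≤ max k l := hk.trans (le_max_left _ _)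
  have he : 1 ≤ ee p k l := by
    unfold ee
    exact Nat.ordCompl_pos p (Nat.lcm_ne_zero (by omega) (by omega))
  apply SS.kl' (p := p)
  refine ss_psu hF hn hp he (Cfsg.Agent.H43.W53.numeric hn hq hM he (hbig.trans (card_PSU_le hF (by omega))) ?_)
  by_cases h5 : max k l ≤ 5
  · left; exact ee_eq_one hp hk hl hg h5 hd
  · right; exact ⟨by omega, ee_le (by omega) hg⟩

end Cfsg.Agent.H950.War
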